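import Mathlib
import Cfsg.Agent.Lib.Flav.Red1
import Cfsg.Agent.Lib.Comp.FStar
import Cfsg.Agent.Lib.PComp.Basic
import Cfsg.Agent.S0205
import Cfsg.Agent.S0227
import Cfsg.Agent.S1301

/-!
Components of a subgroup, in ambient form, and some consequences of `L`-balance and of the
odd order theorem.
-/

set_option autoImplicit false
set_option linter.unusedSectionVars false

namespace CfsgLib.FLA

open Subgroup Cfsg CfsgLib.Tech CfsgLib.Flav CfsgLib.PComp CfsgLib.Comp
open scoped commutatorElement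

variable {Γ : Type*} [Group Γ]

/-- `K` is a component of the subgroup `H`. -/
def Cp (K H : Subgroup Γ) : Prop := SubnIn K H ∧ IsQuasisimple K

theorem cp_iff {K H : Subgroup Γ} : Cp K H ↔ K ≤ H ∧ IsComponent (K.subgroupOf H) :=
  ⟨fun h => ⟨h.1.1, h.1.2, (qs_subgroupOf_iff h.1.1).2 h.2⟩,
    fun h => ⟨⟨h.1, h.2.1⟩, (qs_subgroupOf_iff h.1).1 h.2.2⟩⟩

theorem lay_le_iff {H M : Subgroup Γ} : (layer H).map H.subtype ≤ M ↔ ∀ K, Cp K H → K ≤ M := by
  rw [map_layer_subtype_le_iff]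
  exact ⟨fun h K hK => h K (cp_iff.1 hK).1 (cp_iff.1 hK).2, fun h K h1 h2 => h K (cp_iff.2 ⟨h1, h2⟩)⟩

theorem lay_le (H : Subgroup Γ) : (layer H).map H.subtype ≤ H := map_subtype_le _

theorem lay_perfect (H : Subgroup Γ) :
    ⁅(layer H).map H.subtype, (layer H).map H.subtype⁆ = (layer H).map H.subtype := by
  rw [← map_commutator, layer_perfect]

namespace Cp

variable {K H M U : Subgroup Γ}

theorem le (h : Cp K H) : K ≤ H := h.1.1

theorem le_lay (h : Cp K H) : K ≤ (layer H).map H.subtype :=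
  le_map_layer_subtype h.le (cp_iff.1 h).2

theorem perfect (h : Cp K H) : ⁅K, K⁆ = K := qs_sub_perfect h.2

theorem ne_bot (h : Cp K H) : K ≠ ⊥ := qs_sub_ne_bot h.2

theorem not_le_cent (h : Cp K H) : ¬ K ≤ centralizer (K : Set Γ) := qs_sub_not_le_centralizer h.2

theorem not_le_solvable (h : Cp K H) (hU : Group.IsSolvable U) : ¬ K ≤ U := qs_sub_not_le_solvable h.2 hU

theorem dich (h : Cp K H) (hU : U ≤ H) (hn : K ≤ 𝒩(U)) : K ≤ U ∨ K ≤ centralizer (U : Set Γ) :=
  (comp_rel_le_or_commutator h.le (cp_iff.1 h).2 hU hn).imp id commutator_eq_bot_iff_le_centralizer.1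

theorem of_le (h : Cp K H) (h1 : K ≤ M) (h2 : M ≤ H) : Cp K M := ⟨h.1.of_le h1 h2, h.2⟩

theorem up (h : Cp K H) (h1 : H ≤ M) (h2 : M ≤ 𝒩(H)) : Cp K M :=
  ⟨h.1.trans (subnIn_of_le_normalizer h1 h2), h.2⟩

theorem map {Γ' : Type*} [Group Γ'] (h : Cp K H) (f : Γ →* Γ') (hne : K.map f ≠ ⊥) :
    Cp (K.map f) (H.map f) := ⟨h.1.map f, qs_map h.2 f hne⟩

theorem subgroupOf (h : Cp K H) {N : Subgroup Γ} (hN : K ≤ N) : Cp (K.subgroupOf N) (H.subgroupOf N) :=
  ⟨h.1.comap N.subtype, (qs_subgroupOf_iff hN).2 h.2⟩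

theorem cj (h : Cp K H) {g : Γ} (hg : g ∈ 𝒩(H)) : Cp (cj g K) H := by
  have := h.map (MulAut.conj g).toMonoidHom (fun e => h.ne_bot (cj_eq_bot_iff.1 e))
  rwa [show H.map (MulAut.conj g).toMonoidHom = H from mem_normalizer_iff_cj.1 hg] at this

end Cp

theorem norm_lay [Finite Γ] {H : Subgroup Γ} {g : Γ} (hg : g ∈ 𝒩(H)) : g ∈ 𝒩((layer H).map H.subtype) := by
  refine mem_normalizer_of_cj_le ?_
  rw [← cj_le_cj_iff g⁻¹, cj_inv_cj, lay_le_iff]
  intro K hK
  rw [← cj_le_cj_iff g, cj_cj_inv]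
  exact (hK.cj hg).le_lay

theorem le_norm_lay [Finite Γ] (H : Subgroup Γ) : H ≤ 𝒩((layer H).map H.subtype) :=
  fun _ hg => norm_lay (norm_of_mem hg)

theorem le_cent_symm {A B : Subgroup Γ} (h : A ≤ centralizer (B : Set Γ)) : B ≤ centralizer (A : Set Γ) :=
  le_centralizer_iff.1 h

/-- The layer centralizes the solvable subgroups it normalizes. -/
theorem lay_le_cent {G U : Subgroup Γ} (hU : U ≤ G) (hs : Group.IsSolvable U)
    (hn : (layer G).map G.subtype ≤ 𝒩(U)) : (layer G).map G.subtype ≤ centralizer (U : Set Γ) :=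
  lay_le_iff.2 fun _ hK => (hK.dich hU (hK.le_lay.trans hn)).resolve_left (hK.not_le_solvable hs)

theorem solvable_of_odd [Finite Γ] {U : Subgroup Γ} (h : ¬ 2 ∣ Nat.card U) : Group.IsSolvable U :=
  Cfsg.Agent.S0205.result (Nat.odd_iff.2 (by omega))

theorem Cp.two_dvd [Finite Γ] {K H : Subgroup Γ} (h : Cp K H) : 2 ∣ Nat.card K := by
  by_contra e
  exact h.not_le_solvable (solvable_of_odd e) le_rfl

theorem centralizer_subgroupOf {T G : Subgroup Γ} (h : T ≤ G) :
    centralizer ((T.subgroupOf G : Subgroup G) : Set G) = (centralizer (T : Set Γ)).subgroupOf G := by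
  ext x
  simp only [mem_subgroupOf, mem_centralizer_iff, SetLike.mem_coe]
  exact ⟨fun e t ht => congrArg Subtype.val (e ⟨t, h ht⟩ ht), fun e t ht => Subtype.ext (e t ht)⟩

/-- `L`-balance when the layer is self-centralizing. -/
theorem bal [Finite Γ] {G T J : Subgroup Γ}
    (hC : G ⊓ centralizer (((layer G).map G.subtype : Subgroup Γ) : Set Γ) = ⊥) (hT : IsPGroup 2 T) (hTG : T ≤ G)
    (hJ : Cp J (G ⊓ 𝒩(T))) : J ≤ (layer G).map G.subtype := by
  have hJG : J ≤ G := hJ.le.trans inf_le_left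
  have hs : Group.IsSolvable T := Coprime.isSolvable_of_isPGroup hT
  have h1 : J ≤ centralizer (T : Set Γ) :=
    (hJ.dich (le_inf hTG le_normalizer) (hJ.le.trans inf_le_right)).resolve_left (hJ.not_le_solvable hs)
  have h2 : Cp J (G ⊓ centralizer (T : Set Γ)) :=
    hJ.of_le (le_inf hJG h1) (inf_le_inf_left _ (centralizer_le_normalizer _))
  have h3 := h2.subgroupOf hJG
  rw [subgroupOf, subgroupOf, comap_inf, comap_subtype, comap_subtype, comap_subtype, subgroupOf_self, top_inf_eq,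
    ← centralizer_subgroupOf hTG] at h3
  have hO : pPrimeCore 2 G = ⊥ := by
    have h4 : ¬ 2 ∣ Nat.card (pPrimeCore 2 G) :=
      Nat.prime_two.coprime_iff_not_dvd.1 PLocal.PSolv.coprime_card_pPrimeCore.symm
    haveI : (pPrimeCore 2 G).Normal := inferInstance
    have h5 := layer_le_centralizer_of_solvable_normal (solvable_of_odd h4)
    rw [eq_bot_iff]
    intro x hx
    have h6 : (x : Γ) ∈ G ⊓ centralizer (((layer G).map G.subtype : Subgroup Γ) : Set Γ) := by
      refine ⟨x.2, mem_centralizer_iff.2 ?_⟩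
      rintro _ ⟨y, hy, rfl⟩
      exact congrArg Subtype.val (mem_centralizer_iff.1 (h5 hy) x hx).symm
    rw [hC] at h6
    exact mem_bot.2 (Subtype.ext (mem_bot.1 h6))
  have h7 := Cfsg.Agent.S1301.result (T.subgroupOf G) (hT.of_equiv (subgroupOfEquivOfLe hTG).symm)
  rw [pLayer_eq_layer_of_pPrimeCore_eq_bot hO] at h7
  have h8 : ¬ (Nat.card ((J.subgroupOf G).subgroupOf
      (centralizer ((T.subgroupOf G : Subgroup G) : Set G)))).Coprime 2 := by
    rw [Nat.card_congr (subgroupOfEquivOfLe h3.le).toEquiv, Nat.coprime_comm, Nat.prime_two.coprime_iff_not_dvd, not_not]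
    exact h3.two_dvd
  have h9 := map_mono (f := (centralizer ((T.subgroupOf G : Subgroup G) : Set G)).subtype)
    (pc_le_pLayer (pc_of_comp (cp_iff.1 h3).2 h8))
  rw [map_subgroupOf_eq_of_le h3.le] at h9
  have h10 := map_mono (f := G.subtype) (h9.trans h7)
  rwa [map_subgroupOf_eq_of_le hJG] at h10

/-- Glauberman: a perfect subgroup centralizing a Sylow `2`-subgroup of a self-centralizing layer is trivial. -/
theorem eq_bot_of_cent_sylow [Finite Γ] {G S P : Subgroup Γ}
    (hC : G ⊓ centralizer (((layer G).map G.subtype : Subgroup Γ) : Set Γ) = ⊥)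
    (hS : IsSylowIn 2 S ((layer G).map G.subtype)) (hPG : P ≤ G) (hP : ⁅P, P⁆ = P)
    (hc : P ≤ centralizer (S : Set Γ)) : P = ⊥ := by
  set L := (layer G).map G.subtype with hL
  have hO : ∀ N : Subgroup L, N.Normal → Odd (Nat.card N) → N = ⊥ := by
    intro N hN ho
    have h1 : Group.IsSolvable (N.map L.subtype) := by
      refine solvable_of_odd ?_
      rw [card_map_of_injective L.subtype_injective]
      exact ho.not_two_dvd_nat
    have h2 : L ≤ 𝒩(N.map L.subtype) := by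
      have := le_normalizer_map (H := N) L.subtype
      rwa [normalizer_eq_top, ← MonoidHom.range_eq_map, range_subtype] at this
    have h3 := le_cent_symm (lay_le_cent ((map_subtype_le N).trans (lay_le G)) h1 h2)
    have h4 : N.map L.subtype ≤ ⊥ := hC ▸ le_inf ((map_subtype_le N).trans (lay_le G)) h3
    exact (map_eq_bot_iff_of_injective N L.subtype_injective).1 (le_bot_iff.1 h4)
  let C : Subgroup (MulAut L) :=
    { carrier := {φ | ∀ s : L, s ∈ hS.toSylow → φ s = s}
      mul_mem' := fun {φ ψ} h1 h2 s hs => by rw [MulAut.mul_apply, h2 s hs, h1 s hs]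
      one_mem' := fun _ _ => rfl
      inv_mem' := fun {φ} h1 s hs => by rw [MulAut.inv_apply, MulEquiv.symm_apply_eq, h1 s hs] }
  have hsol := (Cfsg.Agent.S0227.result hO hS.toSylow C fun _ => Iff.rfl).2
  have hPN : P ≤ 𝒩(L) := hPG.trans (le_norm_lay G)
  have h5 : (P.subgroupOf 𝒩(L)).map L.normalizerMonoidHom = ⊥ := by
    refine eq_bot_of_perfect_of_le_solvable ?_ ?_ hsol
    · rw [← map_commutator, Core.commutator_subgroupOf hPN hPN, hP]
    · rintro _ ⟨x, hx, rfl⟩ s hs
      refine Subtype.ext ?_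
      have : (s : Γ) * x = x * s := mem_centralizer_iff.1 (hc hx) s (hS.mem_toSylow.1 hs)
      change (x : Γ) * s * (x : Γ)⁻¹ = s
      rw [← this, mul_inv_cancel_right]
  rw [Subgroup.map_eq_bot_iff, normalizerMonoidHom_ker] at h5
  rw [eq_bot_iff, ← hC]
  exact fun x hx => ⟨hPG hx, h5 (show (⟨x, hPN hx⟩ : 𝒩(L)) ∈ P.subgroupOf _ from hx)⟩

/-- A perfect subgroup of `L M` lies in `L` if `M` normalizes `L` and has no nontrivial perfect subgroup. -/
theorem le_of_perfect_le_sup [Finite Γ] {K L M : Subgroup Γ} (hK : ⁅K, K⁆ = K) (hn : M ≤ 𝒩(L))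
    (hM : ∀ P ≤ M, ⁅P, P⁆ = P → P = ⊥) (h : K ≤ L ⊔ M) : K ≤ L := by
  induction M using WellFoundedLT.induction with
  | ind M ih =>
  have h0 : ⁅M, M⁆ ≤ M := Core.commutator_le_of_le le_rfl le_rfl
  by_cases e : ⁅M, M⁆ = M
  · rwa [hM M le_rfl e, sup_bot_eq] at h
  refine ih ⁅M, M⁆ (lt_of_le_of_ne h0 e) (h0.trans hn) (fun P hP => hM P (hP.trans h0)) ?_
  have n1 : L ≤ 𝒩(L ⊔ ⁅M, M⁆) := fun x hx => norm_of_mem (mem_sup_left hx)
  have n2 : M ≤ 𝒩(L ⊔ ⁅M, M⁆) := fun x hx =>
    norm_sup (hn hx) (norm_comm (norm_of_mem hx) (norm_of_mem hx))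
  rw [← hK]
  refine (commutator_mono h h).trans (Core.commutator_sup_left_le n1 n2 ?_ ?_)
  · exact (Coprime.commutator_le_of_le_normalizer (sup_le le_normalizer hn)).trans le_sup_left
  · refine Core.commutator_sup_right_le n1 n2 ?_ le_sup_right
    rw [commutator_comm]
    exact (Coprime.commutator_le_of_le_normalizer hn).trans le_sup_left

/-- A perfect subgroup inducing inner automorphisms on the layer and centralizing the Fitting subgroup lies in the
layer. -/
theorem le_lay_of_inner [Finite Γ] {K G : Subgroup Γ} (hKG : K ≤ G) (hK : ⁅K, K⁆ = K)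
    (h1 : ∀ k ∈ K, ∃ l ∈ (layer G).map G.subtype,
      l⁻¹ * k ∈ centralizer (((layer G).map G.subtype : Subgroup Γ) : Set Γ))
    (h2 : ∀ p : ℕ, p.Prime → K ≤ centralizer (((pCore p G).map G.subtype : Subgroup Γ) : Set Γ)) :
    K ≤ (layer G).map G.subtype := by
  have h3 : K.subgroupOf G ≤ centralizer (fittingSubgroup G : Set G) := by
    refine le_cent_symm ?_
    rw [Core.fittingSubgroup_eq_iSup_pCore, iSup_le_iff]
    intro p x hx
    rw [mem_centralizer_iff]
    intro k hk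
    exact Subtype.ext (mem_centralizer_iff.1 (h2 p p.2 hk) x ⟨x, hx, rfl⟩).symm
  have h4 : K.subgroupOf G ≤ layer G := by
    refine le_layer_of_perfect_of_le_fstar (by rw [Core.commutator_subgroupOf hKG hKG, hK]) fun k hk => ?_
    obtain ⟨_, ⟨l, hl, rfl⟩, e⟩ := h1 k hk
    have h5 : l⁻¹ * k ∈ centralizer (generalizedFittingSubgroup G : Set G) := by
      refine le_cent_symm (A := generalizedFittingSubgroup G) (B := zpowers (l⁻¹ * k)) ?_ (mem_zpowers _)
      rw [fstar_def]
      refine sup_le (le_cent_symm (zp_le (mem_centralizer_iff.2 fun y hy => Subtype.ext ?_)))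
        (le_cent_symm (zp_le (mul_mem (inv_mem (layer_le_centralizer_fitting hl)) (h3 hk))))
      exact mem_centralizer_iff.1 e y ⟨y, hy, rfl⟩
    have := mul_mem (layer_le_fstar hl) (centralizer_fstar_le h5)
    rwa [mul_inv_cancel_left] at this
  have := map_mono (f := G.subtype) h4
  rwa [map_subgroupOf_eq_of_le hKG] at this

end CfsgLib.FLA
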