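import Mathlib
import Cfsg.Prelude.Def_Amalgam
import Cfsg.Agent.Lib.Flav.Red1
import Cfsg.Agent.Lib.Core.Cores

/-!
Flavell's Hall–Higman–Shult theorem: the minimal configuration `Rq` and its first properties.
-/

set_option autoImplicit false
set_option linter.unusedSectionVars false

namespace CfsgLib.FLA

open Subgroup Cfsg CfsgLib.Tech CfsgLib.Flav
open scoped commutatorElement

variable {Γ : Type*} [Group Γ]

/-- `E` is a `2`-group of class at most two on whose central quotient `a` has no fixed points. -/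
structure Sw (a : Γ) (E : Subgroup Γ) : Prop where
  two : IsPGroup 2 E
  norm : a ∈ 𝒩(E)
  sq : ∀ x ∈ E, x * x ∈ fx a E
  cm : ∀ x ∈ E, ∀ y ∈ E, ⁅x, y⁆ ∈ fx a E
  cen : ∀ w ∈ fx a E, ∀ x ∈ E, Commute w x
  inv : ∀ w ∈ fx a E, w * w = 1

theorem Sw.bot (a : Γ) : Sw a (⊥ : Subgroup Γ) where
  two := IsPGroup.of_bot
  norm := norm_bot a
  sq x hx := by rw [mem_bot.1 hx, mul_one]; exact one_mem _
  cm x hx y _ := by rw [mem_bot.1 hx]; simp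
  cen w _ x hx := by rw [mem_bot.1 hx]; exact Commute.one_right w
  inv w hw := by rw [mem_bot.1 hw.1, mul_one]

theorem sw_of_sp [Finite Γ] {q : ℕ} {a : Γ} {Z E : Subgroup Γ} (h : Sp q a Z E) : Sw a E :=
  ⟨h.two, h.norm, fun _ => h.sq_mem, fun _ hx _ hy => h.comm_mem hx hy, fun _ hw _ hx => h.cen hw hx,
    fun _ => h.fx_sq⟩

/-- `O_p([H, a])`. -/
def yy (p : ℕ) (a : Γ) (H : Subgroup Γ) : Subgroup Γ := pCoreOf p ⁅H, zpowers a⁆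

theorem yy_le (p : ℕ) (a : Γ) (H : Subgroup Γ) : yy p a H ≤ ⁅H, zpowers a⁆ := map_subtype_le _

theorem yy_pg (p : ℕ) (a : Γ) (H : Subgroup Γ) : IsPGroup p (yy p a H) := Core.isPGroup_map_pCore _

theorem norm_yy {p : ℕ} {a g : Γ} {H : Subgroup Γ} (h : g ∈ 𝒩(⁅H, zpowers a⁆)) : g ∈ 𝒩(yy p a H) :=
  Core.normalizer_le_normalizer_map_pCore _ h

theorem le_norm_yy (p : ℕ) (a : Γ) (H : Subgroup Γ) : H ≤ 𝒩(yy p a H) := fun _ h =>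
  norm_yy (normalizer_commutator_ge_left _ _ h)

theorem a_norm_yy (p : ℕ) (a : Γ) (H : Subgroup Γ) : a ∈ 𝒩(yy p a H) :=
  norm_yy (normalizer_commutator_ge_right _ _ (mem_zpowers a))

theorem kk_le {a : Γ} {H : Subgroup Γ} (h : a ∈ 𝒩(H)) : ⁅H, zpowers a⁆ ≤ H :=
  Coprime.commutator_le_of_le_normalizer (zp_le h)

theorem a_norm_kk (a : Γ) (H : Subgroup Γ) : a ∈ 𝒩(⁅H, zpowers a⁆) :=
  normalizer_commutator_ge_right _ _ (mem_zpowers a)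

/-- The `E ⟨a⟩`-invariant `p`-subgroups `Y` of `G` with `Y = [Y, E ⟨a⟩]`. -/
structure InY (p : ℕ) (G : Subgroup Γ) (a : Γ) (E Y : Subgroup Γ) : Prop where
  le : Y ≤ G
  pg : IsPGroup p Y
  na : a ∈ 𝒩(Y)
  nE : E ≤ 𝒩(Y)
  cm : ⁅Y, E ⊔ zpowers a⁆ = Y

/-- `W Z / Z` has order at most two. -/
def Small (G W : Subgroup Γ) : Prop := ∀ b ∈ W, ∀ c ∈ W, b ∉ zz G → c ∉ zz G → b * c ∈ zz G

/-- The minimal configuration. -/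
structure Rq (p r : ℕ) (G : Subgroup Γ) (a : Γ) : Prop where
  hp : p ≠ 2
  hr : r.Prime
  hrp : r ≠ p
  ha : a ^ r = 1
  aG : a ∈ 𝒩(G)
  hrG : ¬ r ∣ Nat.card G
  gen : ⁅G, zpowers a⁆ = G
  not2 : ¬ IsPGroup 2 G
  triv : ∀ O ≤ G, IsPGroup p O → G ≤ 𝒩(O) → a ∈ 𝒩(O) → O = ⊥
  cr : ∀ s : ℕ, s.Prime → s ≠ p → ∀ Q ≤ G, IsPGroup s Q → a ∈ 𝒩(Q) →
    (s ≠ 2 ∨ ∀ x ∈ Q, ∀ y ∈ Q, Commute x y) → ∀ x ∈ Q, Commute a x
  sp : ∀ E ≤ G, IsPGroup 2 E → a ∈ 𝒩(E) → ⁅E, zpowers a⁆ = E → E ≠ ⊥ → ∃ q, r = q + 1 ∧ Sp q a (zz G) E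
  ih : ∀ H ≤ G, H ≠ G → a ∈ 𝒩(H) → IsSylowIn p (yy p a H) ⁅H, zpowers a⁆
  m1 : ∀ F ≤ G, IsPGroup 2 F → a ∈ 𝒩(F) → ⁅F, zpowers a⁆ = F → ∀ z ∈ F, z ∈ zz G → z ≠ 1 → z * z = 1 →
    ∀ Y ≤ G, a ∈ 𝒩(Y) → Y ≤ centralizer (F : Set Γ) → ∀ y ∈ Y, Commute a y
  fn : ∀ F A Y R : Subgroup Γ, F ≤ G → Sw a F → ⁅F, zpowers a⁆ = F → IsPGroup p R → a ∈ 𝒩(R) →
    A ≤ R → A ≤ centralizer (R : Set Γ) → (∀ z ∈ A, z ^ p = 1) → (∀ z ∈ A, Commute a z) → A ≤ 𝒩(F) →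
    (∀ z ∈ A, (∀ w ∈ fx a F, Commute z w) → z = 1) → Y ≤ R → a ∈ 𝒩(Y) → ⁅Y, zpowers a⁆ = Y →
    Y ≤ centralizer (F : Set Γ) → (∀ y ∈ Y, ∀ x ∈ R, ⁅y, x⁆ ∈ A) → Y ≤ centralizer (R : Set Γ)

variable [Finite Γ] {p : ℕ} [Fact p.Prime]

namespace Rq

variable {r : ℕ} {G : Subgroup Γ} {a : Γ} (h : Rq p r G a)
include h

theorem cop {H : Subgroup Γ} (hH : H ≤ G) : (Nat.card (zpowers a)).Coprime (Nat.card H) :=
  cop_of_pow h.hr h.ha h.hrG hH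

theorem syl (s : ℕ) [Fact s.Prime] {H U : Subgroup Γ} (hH : H ≤ G) (haH : a ∈ 𝒩(H)) (hU : U ≤ H)
    (hs : IsPGroup s U) (haU : a ∈ 𝒩(U)) : ∃ S, IsSylowIn s S H ∧ a ∈ 𝒩(S) ∧ U ≤ S :=
  exists_inv_sylow s haH (h.cop hH) hU hs haU

theorem syl0 (s : ℕ) [Fact s.Prime] {H : Subgroup Γ} (hH : H ≤ G) (haH : a ∈ 𝒩(H)) :
    ∃ S, IsSylowIn s S H ∧ a ∈ 𝒩(S) :=
  let ⟨S, h1, h2, _⟩ := h.syl s hH haH bot_le IsPGroup.of_bot (norm_bot a)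
  ⟨S, h1, h2⟩

theorem kk_kk {H : Subgroup Γ} (hH : H ≤ G) (haH : a ∈ 𝒩(H)) : ⁅⁅H, zpowers a⁆, zpowers a⁆ = ⁅H, zpowers a⁆ :=
  Coprime.commutator_commutator_eq (zp_le haH) (h.cop hH)

/-- `H = [H, a] C_H(a)`. -/
theorem split {H : Subgroup Γ} (hH : H ≤ G) (haH : a ∈ 𝒩(H)) {x : Γ} (hx : x ∈ H) :
    ∃ u ∈ ⁅H, zpowers a⁆, ∃ c ∈ H, Commute a c ∧ x = u * c :=
  let ⟨u, hu, c, hc, e⟩ := Coprime.exists_commutator_mul_centralizer (zp_le haH) (h.cop hH)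
    (.inl (Coprime.isSolvable_zpowers a)) hx
  ⟨u, hu, c, hc.1, cent_zp.1 hc.2, e⟩

theorem cl {H X T P : Subgroup Γ} (hH : H ≤ G) (haH : a ∈ 𝒩(H)) (hX : X ≤ H) (haX : a ∈ 𝒩(X))
    (hT : IsSylowIn 2 T H) (haT : a ∈ 𝒩(T)) (hTX : ⁅T, zpowers a⁆ ≤ X)
    (hP : IsSylowIn p P H) (haP : a ∈ 𝒩(P)) (hPX : ⁅P, zpowers a⁆ ≤ X) : ⁅H, zpowers a⁆ ≤ X := by
  refine comm_le_of_sylow haH (h.cop hH) hX haX fun s hs => ?_
  by_cases h2 : s = 2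
  · exact h2 ▸ ⟨T, hT, haT, hTX⟩
  by_cases hp : s = p
  · exact hp ▸ ⟨P, hP, haP, hPX⟩
  have := Fact.mk hs
  obtain ⟨S, hS, haS⟩ := h.syl0 s hH haH
  refine ⟨S, hS, haS, comm_zp_le haX fun x hx => ?_⟩
  rw [comm_one (h.cr s hs hp S (hS.le.trans hH) hS.pgroup haS (.inl h2) x hx)]
  exact X.one_mem

theorem cent {X : Subgroup Γ} (hX : G ≤ 𝒩(X)) (e : ∀ x ∈ X, Commute a x) : G ≤ centralizer (X : Set Γ) := by
  have h1 : a ∈ centralizer (X : Set Γ) := fun x hx => (e x hx).symm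
  exact h.gen.ge.trans (comm_zp_le (norm_of_mem h1) fun g hg => comm_mem_left (norm_cent (hX hg)) h1)

theorem aZ {z : Γ} (hz : z ∈ zz G) : Commute a z := by
  have e := Coprime.eq_of_forall_invariant_pgroup_le (zp_le (norm_zz h.aG)) (h.cop zz_le)
    (.inl (Coprime.isSolvable_zpowers a)) (fx_le (a := a)) fun s S hs h1 h2 _ h3 x hx => by
      have h4 : a ∈ 𝒩(S) := h3 (mem_zpowers a)
      refine mem_fx.2 ⟨h1 hx, ?_⟩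
      by_cases e : s = p
      · rw [mem_bot.1 ((h.triv S (h1.trans zz_le) (e ▸ h2)
          (fun g hg => norm_of_comm fun y hy => zz_comm (h1 hy) hg) h4).le hx)]
        exact Commute.one_right a
      · exact h.cr s hs e S (h1.trans zz_le) h2 h4 (.inr fun y hy w hw => zz_comm (h1 hw) (zz_le (h1 hy))) x hx
  exact fx_comm (e.ge hz)

theorem sw {F : Subgroup Γ} (hF : F ≤ G) (h2 : IsPGroup 2 F) (haF : a ∈ 𝒩(F)) (hc : ⁅F, zpowers a⁆ = F) :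
    Sw a F := by
  by_cases e : F = ⊥
  · exact e ▸ Sw.bot a
  · obtain ⟨q, -, k⟩ := h.sp F hF h2 haF hc e
    exact sw_of_sp k

/-- `p`-subgroups of `[H, a]` lie in `O_p([H, a])`. -/
theorem le_yy {H Q : Subgroup Γ} (hH : H ≤ G) (hne : H ≠ G) (haH : a ∈ 𝒩(H)) (hQ : IsPGroup p Q)
    (hQH : Q ≤ ⁅H, zpowers a⁆) : Q ≤ yy p a H :=
  (h.ih H hH hne haH).le_of_normalizes hQ hQH (hQH.trans fun _ hx => norm_yy (norm_of_mem hx))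

theorem kk_le_yy {H Q : Subgroup Γ} (hH : H ≤ G) (hne : H ≠ G) (haH : a ∈ 𝒩(H)) (hQ : IsPGroup p Q)
    (hQH : Q ≤ H) (haQ : a ∈ 𝒩(Q)) : ⁅Q, zpowers a⁆ ≤ yy p a H :=
  h.le_yy hH hne haH (hQ.to_le (kk_le haQ)) (commutator_mono hQH le_rfl)

/-- `[H, a] = O_p([H, a]) [U, a]` for a proper invariant subgroup `H` with invariant Sylow `2`-subgroup `U`. -/
theorem kk_eq {H U : Subgroup Γ} (hH : H ≤ G) (hne : H ≠ G) (haH : a ∈ 𝒩(H)) (hU : IsSylowIn 2 U H)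
    (haU : a ∈ 𝒩(U)) : ⁅H, zpowers a⁆ = yy p a H ⊔ ⁅U, zpowers a⁆ := by
  have h1 : yy p a H ⊔ ⁅U, zpowers a⁆ ≤ ⁅H, zpowers a⁆ := sup_le (yy_le p a H) (commutator_mono hU.le le_rfl)
  obtain ⟨P, hP, haP⟩ := h.syl0 p hH haH
  exact le_antisymm (h.cl hH haH (h1.trans (kk_le haH)) (norm_sup (a_norm_yy p a H) (a_norm_kk a U)) hU haU
    le_sup_right hP haP ((h.kk_le_yy hH hne haH hP.pgroup hP.le haP).trans le_sup_left)) h1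

/-- Normalizers of non-trivial invariant `p`-subgroups are proper. -/
theorem norm_ne {Q : Subgroup Γ} (hQ : Q ≤ G) (hp : IsPGroup p Q) (haQ : a ∈ 𝒩(Q)) (h1 : Q ≠ ⊥) :
    G ⊓ 𝒩(Q) ≠ G := fun e => h1 (h.triv Q hQ hp (e.ge.trans inf_le_right) haQ)

theorem a_norm_norm {Q : Subgroup Γ} (haQ : a ∈ 𝒩(Q)) : a ∈ 𝒩(G ⊓ 𝒩(Q)) := norm_inf h.aG (norm_norm' haQ)

theorem inf_eq_bot {Q U : Subgroup Γ} (hQ : IsPGroup p Q) (hU : IsPGroup 2 U) : Q ⊓ U = ⊥ :=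
  Core.isPGroup_inf_eq_bot_of_coprime hQ
    (Core.isPGroup_coprime_card hU ((Nat.coprime_primes Fact.out Nat.prime_two).2 h.hp))

/-- `|E ⟨a⟩|` is prime to the order of a `p`-subgroup. -/
theorem copA {E Q : Subgroup Γ} (hE : IsPGroup 2 E) (haE : a ∈ 𝒩(E)) (hQ : IsPGroup p Q) :
    (Nat.card ↥(E ⊔ zpowers a)).Coprime (Nat.card Q) := by
  rw [sup_comm]
  refine Nat.Coprime.coprime_dvd_left (Core.card_sup_dvd_of_le_normalizer (zp_le haE)) (Nat.Coprime.mul_left ?_ ?_)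
  · refine (Core.isPGroup_coprime_card hQ ?_).symm
    rw [Nat.card_zpowers]
    exact ((Nat.coprime_primes h.hr Fact.out).2 h.hrp).coprime_dvd_left (orderOf_dvd_of_pow_eq_one h.ha)
  · exact (Core.isPGroup_coprime_card hQ
      (Core.isPGroup_coprime_card hE ((Nat.coprime_primes Fact.out Nat.prime_two).2 h.hp))).symm

variable {T : Subgroup Γ} (hT : IsSylowIn 2 T G) (haT : a ∈ 𝒩(T))
include hT haT

theorem conj_comm {T' : Subgroup Γ} (hT' : IsSylowIn 2 T' G) (haT' : a ∈ 𝒩(T')) :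
    ∃ c ∈ G, Commute a c ∧ ⁅T', zpowers a⁆ = cj c ⁅T, zpowers a⁆ := by
  obtain ⟨c, hc, e⟩ := Coprime.exists_centralizer_smul_sylow_eq' (zp_le h.aG) (h.cop le_rfl)
    (.inl (Coprime.isSolvable_zpowers a)) hT.le hT.pgroup hT.not_dvd (zp_le haT) hT'.le hT'.pgroup hT'.not_dvd
    (zp_le haT')
  exact ⟨c, hc.1, cent_zp.1 hc.2, by rw [cj_commutator, cj_zpowers, comm_conj_eq (cent_zp.1 hc.2).symm, ← e]; rfl⟩

theorem E_le : ⁅T, zpowers a⁆ ≤ G := (kk_le haT).trans hT.le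

theorem E_two : IsPGroup 2 ↥⁅T, zpowers a⁆ := hT.pgroup.to_le (kk_le haT)

theorem E_kk : ⁅⁅T, zpowers a⁆, zpowers a⁆ = ⁅T, zpowers a⁆ := h.kk_kk hT.le haT

/-- No proper invariant subgroup contains `[T, a]` and `[P, a]`. -/
theorem step0 {H P : Subgroup Γ} (hH : H ≤ G) (haH : a ∈ 𝒩(H)) (hE : ⁅T, zpowers a⁆ ≤ H)
    (hP : IsSylowIn p P G) (haP : a ∈ 𝒩(P)) (hPH : ⁅P, zpowers a⁆ ≤ H) : H = G :=
  le_antisymm hH (h.gen.ge.trans (h.cl le_rfl h.aG hH haH hT haT hE hP haP hPH))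

theorem E_ne : ⁅T, zpowers a⁆ ≠ ⊥ := fun e => by
  obtain ⟨P, hP, haP⟩ := h.syl0 p le_rfl h.aG
  have h1 := h.step0 hT haT hP.le haP (e.le.trans bot_le) hP haP (kk_le haP)
  have h2 := h.triv P hP.le hP.pgroup (h1.ge.trans le_normalizer) haP
  exact h.not2 (by rw [← h1, h2]; exact IsPGroup.of_bot)

theorem E_sp : ∃ q, r = q + 1 ∧ Sp q a (zz G) ⁅T, zpowers a⁆ :=
  h.sp _ (h.E_le hT haT) (h.E_two hT haT) (a_norm_kk a T) (h.E_kk hT haT) (h.E_ne hT haT)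

/-- `[H, a] = O_p([H, a]) E` for a proper invariant subgroup `H` containing `E = [T, a]`. -/
theorem full {H : Subgroup Γ} (hH : H ≤ G) (hne : H ≠ G) (haH : a ∈ 𝒩(H)) (hE : ⁅T, zpowers a⁆ ≤ H) :
    ⁅H, zpowers a⁆ = yy p a H ⊔ ⁅T, zpowers a⁆ := by
  obtain ⟨U, hU, haU, h3⟩ := h.syl 2 hH haH hE (h.E_two hT haT) (a_norm_kk a T)
  obtain ⟨T', hT', haT', h4⟩ := h.syl 2 le_rfl h.aG (hU.le.trans hH) hU.pgroup haU
  obtain ⟨c, -, -, e⟩ := h.conj_comm hT haT hT' haT'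
  have h5 : ⁅T, zpowers a⁆ = ⁅T', zpowers a⁆ := Core.eq_of_le_of_card_le
    ((h.E_kk hT haT).ge.trans (commutator_mono (h3.trans h4) le_rfl)) (by rw [e, card_cj])
  rw [h.kk_eq hH hne haH hU haU, le_antisymm ((commutator_mono h4 le_rfl).trans h5.ge)
    ((h.E_kk hT haT).ge.trans (commutator_mono h3 le_rfl))]

end Rq

end CfsgLib.FLA
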