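import Mathlib
import Cfsg.Agent.Lib.FLA.Defs
import Cfsg.Agent.Lib.Flav.Q5

/-!
Flavell's Theorem A: `[G, a]` is solvable.
-/

set_option autoImplicit false
set_option linter.unusedSectionVars false

namespace CfsgLib.FLA

open Subgroup Cfsg CfsgLib.Tech CfsgLib.Flav
open scoped commutatorElement

theorem thmA_solvable {F : Type*} [Field F] {p r : ℕ} [Fact p.Prime] [CharP F p] (hr : r.Prime) (hrp : r ≠ p)
    {V : Type*} [AddCommGroup V] [Module F V] [FiniteDimensional F V] {Γ : Type*} [Group Γ] [Finite Γ]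
    (ρ : Representation F Γ V) {a : Γ} (ha : a ^ r = 1) (hfix : ∀ v, ρ a v = v → v = 0) {G : Subgroup Γ}
    (haG : a ∈ 𝒩(G)) (hrG : ¬ r ∣ Nat.card G) (hker : ∀ z ∈ G, ρ z = 1 → (orderOf z).Coprime p → z = 1) :
    Group.IsSolvable ↥⁅G, zpowers a⁆ := by
  have h1 := cop_of_pow hr ha hrG le_rfl
  obtain ⟨T, hT, haT, -⟩ := exists_inv_sylow 2 haG h1 bot_le IsPGroup.of_bot (norm_bot a)
  have := Coprime.isSolvable_of_isPGroup hT.pgroup
  by_cases hp : p = 2
  · subst hp
    exact Core.isSolvable_of_le (comm_le_of_rep ρ hr ha hfix haG hrG hker hT.le haT hT haT (kk_le haT) hT haT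
      (kk_le haT))
  obtain ⟨P, hP, haP, -⟩ := exists_inv_sylow p haG h1 bot_le IsPGroup.of_bot (norm_bot a)
  have h2 := Core.normalizer_le_normalizer_map_pCore (p := p) G
  have := Coprime.isSolvable_of_isPGroup (Core.isPGroup_map_pCore (p := p) G)
  have := Core.isSolvable_sup_of_le_normalizer ((hT.le.trans le_normalizer).trans h2)
  exact Core.isSolvable_of_le (comm_le_of_rep ρ hr ha hfix haG hrG hker (sup_le hT.le (map_subtype_le _))
    (norm_sup haT (h2 haG)) hT haT ((kk_le haT).trans le_sup_left) hP haP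
    ((comm_le_core hp hr hrp ρ ha hfix haG hrG hker hP.le hP.pgroup haP).trans le_sup_right))

end CfsgLib.FLA
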