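import Mathlib
import Cfsg.Agent.Lib.FLA.Defs
import Cfsg.Agent.Lib.Flav.ActS

/-!
Odd order elements acting on the `2`-groups `E = [E, a]`.
-/

set_option autoImplicit false
set_option linter.unusedSectionVars false

namespace CfsgLib.FLA

open Subgroup Cfsg CfsgLib.Tech CfsgLib.Flav
open scoped commutatorElement

variable {Γ : Type*} [Group Γ] [Finite Γ]

theorem sp_odd {q : ℕ} {a d : Γ} {Z E : Subgroup Γ} (h : Sp q a Z E) (hd : d ∈ 𝒩(E)) (had : Commute a d)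
    {l n : ℕ} (hl : l.Prime) (hl2 : l ≠ 2) (hlq : l ≠ q + 1) (hdl : d ^ l ^ n = 1)
    (hW : ∀ w ∈ fx a E, Commute d w) : ∀ x ∈ E, Commute d x := by
  refine h.cent_of_comm had fun y hy => h.mem_fx_of (comm_mem_right hd hy) fun K S k => ?_
  have h1 : d ∈ 𝒩(S) := mem_norm fun x hx => (k.cen _ (cj_mem hd (k.SE hx))).2 fun u hu => by
    have h2 := h.comm_mem (k.SE hx) (cj_mem' hd hu)
    rw [show ⁅d * x * d⁻¹, u⁆ = d * ⁅x, d⁻¹ * u * d⁆ * d⁻¹ by rw [conj_comm]; group, comm_conj_eq (hW _ h2)]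
    exact k.cenK hx (cj_mem' hd hu)
  have h6 : S ≤ E ⊓ cm S {d} := fun w hw => ⟨k.SE hw, mem_cm1.2 ⟨norm_of_mem hw, comm_mem_left h1 hw⟩⟩
  rcases k.irr h.toNum h6 inf_le_left (norm_inf h.norm
    (norm_cm k.aS (by simp [mul_assoc, ← had.eq]))) with h7 | h7
  swap
  · exact comm_symm ((h7.ge hy).2.2 d rfl)
  exfalso
  have h8 : l ∣ {x | x ∈ E ∧ x * x ∉ K}.ncard := dvd_ncard_of_fpf hl hdl
    (fun x hx => ⟨cj_mem hd hx.1, fun e => hx.2 (by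
      rwa [show d * x * d⁻¹ * (d * x * d⁻¹) = d * (x * x) * d⁻¹ by group, comm_conj_eq (hW _ (h.sq_mem hx.1))] at e)⟩)
    fun x hx e => hx.2 (k.sqK (h7.le ⟨hx.1, mem_cm1.2 ⟨k.ES hx.1, by
      rw [comm_one (comm_of_conj_eq e).symm]; exact one_mem _⟩⟩))
  obtain ⟨m, -, hm⟩ := h.pow
  obtain ⟨j, hj⟩ := IsPGroup.iff_card.1 (h.two.to_le k.SE)
  have h9 := (h8.mul_left 2).trans (k.card_nonsing h.toNum).dvd
  have h10 : ∀ i, ¬ l ∣ 2 ^ i := fun i e =>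
    hl2 ((Nat.prime_dvd_prime_iff_eq hl Nat.prime_two).1 (hl.dvd_of_dvd_pow e))
  exact hlq ((Nat.prime_dvd_prime_iff_eq hl h.prime).1 ((hl.dvd_mul.1 ((hl.dvd_mul.1 h9).resolve_right
    (hj ▸ h10 j))).resolve_left fun e => h10 m (hm ▸ e)))

theorem cop_zp {p l n : ℕ} [Fact p.Prime] (hl : l.Prime) (hlp : l ≠ p) {s : Γ} (hsl : s ^ l ^ n = 1)
    {W : Subgroup Γ} (h : IsPGroup p W) : (Nat.card (zpowers s)).Coprime (Nat.card W) := by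
  refine (Core.isPGroup_coprime_card h ?_).symm
  rw [Nat.card_zpowers]
  exact (((Nat.coprime_primes hl Fact.out).2 hlp).pow_left n).coprime_dvd_left (orderOf_dvd_of_pow_eq_one hsl)

theorem idx2 {W W₁ : Subgroup Γ} (h2 : IsPGroup 2 W) (h1 : W₁ ≤ W) {s : Γ} (hs : s ∈ 𝒩(W)) {l n : ℕ}
    (hl : l.Prime) (hl2 : l ≠ 2) (hsl : s ^ l ^ n = 1) (hc : ∀ w ∈ W₁, Commute s w)
    (hi : ∀ b ∈ W, ∀ c ∈ W, b ∉ W₁ → c ∉ W₁ → b * c ∈ W₁) : ∀ w ∈ W, Commute s w := fun w hw => by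
  refine (Coprime.le_centralizer_of_commutator_le h1 (comm_zp_le (norm_of_comm hc) fun b hb => ?_)
    (cop_zp hl hl2 hsl (h2.to_le h1)) (zp_le fun x hx => (hc x hx).symm) (mem_zpowers s) w hw).symm
  by_cases e : b ∈ W₁
  · rw [comm_one (hc b e)]; exact one_mem _
  exact hi _ (cj_mem hs hb) _ (inv_mem hb) (fun e' => e (of_cj_mem (norm_of_comm hc) e'))
    fun e' => e (inv_mem_iff.1 e')

theorem syl_sup {p q : ℕ} [Fact p.Prime] [Fact q.Prime] (hp : p ≠ q) {Y D : Subgroup Γ} (hY : IsPGroup p Y)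
    (hD : IsPGroup q D) (h : D ≤ 𝒩(Y) ∨ Y ≤ 𝒩(D)) : IsSylowIn q D (Y ⊔ D) := by
  refine ⟨le_sup_right, hD, fun e => ?_⟩
  have h1 : Nat.card ↥(Y ⊔ D) ∣ Nat.card D * Nat.card Y := h.elim
    (fun h => sup_comm Y D ▸ Core.card_sup_dvd_of_le_normalizer h)
    fun h => mul_comm (Nat.card Y) _ ▸ Core.card_sup_dvd_of_le_normalizer h
  rw [← card_mul_relIndex' (le_sup_right : D ≤ Y ⊔ D)] at h1
  exact (Fact.out : q.Prime).coprime_iff_not_dvd.1 (Core.isPGroup_coprime_card hY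
    ((Nat.coprime_primes Fact.out Fact.out).2 hp.symm)).symm
    (e.trans (Nat.dvd_of_mul_dvd_mul_left Nat.card_pos h1))

theorem adj0 {p : ℕ} [Fact p.Prime] (hp : p ≠ 2) {Y D : Subgroup Γ} (hY : IsPGroup p Y) (hD : IsPGroup 2 D)
    (hDY : D ≤ 𝒩(Y)) {a c : Γ} (haY : a ∈ 𝒩(Y)) (haD : a ∈ 𝒩(D))
    (hcop : (Nat.card (zpowers a)).Coprime (Nat.card Y)) (hc : c ∈ 𝒩(Y ⊔ D)) (hac : Commute a c) :
    ∃ y ∈ Y, Commute a y ∧ y⁻¹ * c ∈ 𝒩(D) := by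
  have h1 := syl_sup hp hY hD (.inl hDY)
  obtain ⟨g, hg, e⟩ := h1.exists_cj_eq (h1.cj_of_mem_normalizer hc)
  obtain ⟨k, hk, d, hd, rfl⟩ := (Core.mem_sup_of_le_normalizer_left hDY).1 hg
  rw [cj_mul, cj_eq_of_mem hd] at e
  obtain ⟨y, hy, e'⟩ := Coprime.exists_centralizer_conj_smul_eq (zp_le haY) hcop
    (.inl (Coprime.isSolvable_zpowers a)) D hk (zp_le haD) (zp_le (by
      rw [smul_eq_cj, e, ← cj_normalizer, mem_cj, mul_assoc, hac.eq, inv_mul_cancel_left]; exact haD))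
  refine ⟨y, hy.1, cent_zp.1 hy.2, mem_normalizer_iff_cj.2 ?_⟩
  rw [smul_eq_cj, smul_eq_cj, e] at e'
  rw [cj_mul, ← e', cj_inv_cj]

theorem adjust {p : ℕ} [Fact p.Prime] (hp : p ≠ 2) {Y D S : Subgroup Γ} (hS : IsPGroup p S) (hYS : Y ≤ S)
    (hD : IsPGroup 2 D) (hDY : D ≤ 𝒩(Y)) {a : Γ} (haD : a ∈ 𝒩(D))
    (hcop : (Nat.card (zpowers a)).Coprime (Nat.card S)) (hSn : S ≤ 𝒩(Y ⊔ D)) (haS : ∀ s ∈ S, ⁅a, s⁆ ∈ Y)
    {s : Γ} (hs : s ∈ S) : ∃ y ∈ Y, ∃ c ∈ S, Commute a c ∧ c ∈ 𝒩(D) ∧ s = y * c := by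
  have haY : a ∈ 𝒩(Y) := mem_norm_of_comm fun y hy => haS y (hYS hy)
  have h1 := Coprime.coprime_of_le hcop le_rfl hYS
  obtain ⟨u, hu, c, hc, rfl⟩ := Coprime.exists_mul_centralizer_of_commutator_le hYS (comm_zp_le haY haS) h1
    (.inl (Coprime.isSolvable_zpowers a)) hs
  obtain ⟨y, hy, h2, h3⟩ := adj0 hp (hS.to_le hYS) hD hDY haY haD h1 (hSn hc.1) (cent_zp.1 hc.2)
  exact ⟨u * y, mul_mem hu hy, y⁻¹ * c, mul_mem (inv_mem (hYS hy)) hc.1, h2.inv_right.mul_right (cent_zp.1 hc.2), h3,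
    by group⟩

theorem inv_of_fpf {Y : Subgroup Γ} {b : Γ} (hb : b ∈ 𝒩(Y)) (hb2 : b * b = 1)
    (hf : ∀ y ∈ Y, Commute b y → y = 1) : ∀ y ∈ Y, b * y * b⁻¹ = y⁻¹ := fun y hy => by
  obtain ⟨x, -, rfl⟩ := fpf_surj (α := MulAut.conj b) (fun y hy => cj_mem hb hy)
    (fun y hy e => hf y hy (comm_of_conj_eq e)) hy
  have h1 : b⁻¹ = b := inv_eq_of_mul_eq_one_right hb2
  simp only [MulAut.conj_apply, mul_inv_rev, inv_inv, h1]
  calc _ = b * b * x * b * x⁻¹ * b := by group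
    _ = _ := by rw [hb2]; group

/-- If `E = [E, a]` for a coprime action then `C_E(a) ≤ [E, E]`. -/
theorem fx_le_comm {E : Subgroup Γ} {a : Γ} (haE : a ∈ 𝒩(E)) (hcop : (Nat.card (zpowers a)).Coprime (Nat.card E))
    (hc : ⁅E, zpowers a⁆ = E) : fx a E ≤ ⁅E, E⁆ := fun _ hx =>
  Coprime.centralizer_inf_commutator_le (zp_le haE) hcop ⟨cent_zp.2 (fx_comm hx), hc.ge hx.1⟩

end CfsgLib.FLA
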