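import Mathlib
import Cfsg.Agent.Lib.FLA.Main
import Cfsg.Agent.Lib.FLA.Odd
import Cfsg.Agent.Lib.Flav.ActS
import Cfsg.Agent.Lib.Comp.FStar
import Cfsg.Agent.Lib.Comp.Arrow
import Cfsg.Agent.Lib.Frob.Thompson
import Cfsg.Agent.Lib.Solv.AutQuot

/-!
Group theoretic consequences of Theorem A.
-/

set_option autoImplicit false
set_option linter.unusedSectionVars false

namespace CfsgLib.FLA

open Subgroup Cfsg CfsgLib.Tech CfsgLib.Flav
open scoped commutatorElement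

variable {Γ : Type*} [Group Γ] [Finite Γ] {r : ℕ} {a : Γ}

/-- The layer of a subgroup, as a subgroup of the ambient group. -/
abbrev lay (H : Subgroup Γ) : Subgroup Γ := (layer H).map H.subtype

section pim
variable {M : Subgroup Γ} {X : Type*} [Group X] {f : M →* X} {A B : Subgroup Γ} {g : Γ}

/-- The image of `H ⊓ M` under a homomorphism defined on `M`. -/
def pim (f : M →* X) (H : Subgroup Γ) : Subgroup X := (H.subgroupOf M).map f

theorem mem_pim (hm : g ∈ M) (h : g ∈ A) : f ⟨g, hm⟩ ∈ pim f A := ⟨⟨g, hm⟩, h, rfl⟩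

theorem pim_mono (h : A ≤ B) : pim f A ≤ pim f B := map_mono (comap_mono h)

theorem pim_norm (hm : g ∈ M) (h : g ∈ 𝒩(A)) : f ⟨g, hm⟩ ∈ 𝒩(pim f A) :=
  le_normalizer_map f ⟨⟨g, hm⟩, le_normalizer_comap M.subtype h, rfl⟩

theorem pim_card : Nat.card (pim f A) ∣ Nat.card A :=
  (card_map_dvd _ _).trans (card_comap_dvd_of_injective _ _ M.subtype_injective)

theorem pim_comm (hA : A ≤ M) (hB : B ≤ M) : pim f ⁅A, B⁆ = ⁅pim f A, pim f B⁆ := by
  rw [pim, ← Core.commutator_subgroupOf hA hB, map_commutator]; rfl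

theorem pim_zp (hm : g ∈ M) : pim f (zpowers g) = zpowers (f ⟨g, hm⟩) := by
  rw [← MonoidHom.map_zpowers, pim]; congr 1
  exact map_injective M.subtype_injective (by
    rw [map_subgroupOf_eq_of_le (zp_le hm), MonoidHom.map_zpowers]; rfl)

theorem pim_perfect (hA : ⁅A, A⁆ = A) (hAM : A ≤ M) {S : Subgroup X} (hS : Group.IsSolvable S)
    (h : pim f A ≤ S) (hg : g ∈ A) : f ⟨g, hAM hg⟩ = 1 :=
  mem_bot.1 (Comp.eq_bot_of_perfect_of_le_solvable (by rw [← pim_comm hAM hAM, hA]) h hS ▸ mem_pim _ hg)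

end pim

/-- Fixed points on a section lift. -/
theorem fx_lift {Q N : Subgroup Γ} (hNQ : N ≤ Q) (hQN : Q ≤ 𝒩(N)) (haN : a ∈ 𝒩(N))
    (hcop : (Nat.card (zpowers a)).Coprime (Nat.card N)) {x : Γ} (hx : x ∈ Q) (h : ⁅x, a⁆ ∈ N) :
    ∃ u ∈ N, ∃ c ∈ fx a Q, x = u * c :=
  let ⟨u, hu, c, hc, e⟩ := Coprime.exists_mul_centralizer_of_commutator_le (K := Q ⊓ cm N {a})
    (fun y hy => ⟨hNQ hy, mem_cm1.2 ⟨norm_of_mem hy, comm_mem_left haN hy⟩⟩)
    (comm_zp_le haN fun _ hy => comm_symm (mem_cm1.1 hy.2).2) hcop (.inl (Coprime.isSolvable_zpowers a))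
    ⟨hx, mem_cm1.2 ⟨hQN hx, h⟩⟩
  ⟨u, hu, c, mem_fx.2 ⟨hc.1.1, cent_zp.1 hc.2⟩, e⟩

theorem perfect_le {p : ℕ} [Fact p.Prime] (hr : r.Prime) (hrp : r ≠ p) (ha : a ^ r = 1) {Q N H E : Subgroup Γ}
    (hQ : IsPGroup p Q) (hNQ : N ≤ Q) (hQN : Q ≤ 𝒩(N)) (hHQ : H ≤ 𝒩(Q)) (hHN : H ≤ 𝒩(N)) (haQ : a ∈ 𝒩(Q))
    (haN : a ∈ 𝒩(N)) (haH : a ∈ 𝒩(H)) (hrH : ¬ r ∣ Nat.card H) (hf : fx a Q ≤ N) (hE : ⁅E, E⁆ = E)
    (hEH : E ≤ ⁅H, zpowers a⁆) : ⁅Q, E⁆ ≤ N := by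
  have := (normal_subgroupOf_iff_le_normalizer hNQ).2 hQN
  let φ : ↥(normalizer (Q : Set Γ) ⊓ normalizer (N : Set Γ)) →* MulAut (Q ⧸ N.subgroupOf Q) :=
    Solv.quotAut (Q.normalizerMonoidHom.comp (inclusion inf_le_left)) _ fun g _ hx => cj_mem g.2.2 hx
  have hφ : ∀ g (x : Q), φ g x = x ↔ ⁅x.1, g.1⁆ ∈ N := fun g x => by
    rw [eq_comm]
    refine (QuotientGroup.eq_iff_div_mem (x := x)).trans ?_
    rw [mem_subgroupOf, div_eq_mul_inv]
    show x.1 * (g.1 * x.1 * g.1⁻¹)⁻¹ ∈ N ↔ _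
    rw [commutatorElement_def]; group
  have hP : IsPGroup p (Q ⧸ N.subgroupOf Q) := hQ.to_quotient _
  have hH : H ≤ 𝒩(Q) ⊓ 𝒩(N) := le_inf hHQ hHN
  have key := thmA_solvable hr hrp (frRep hP) (a := φ ⟨a, haQ, haN⟩)
    (by rw [← map_pow, ← map_one φ]; exact congrArg φ (Subtype.ext ha))
    (frRep_fix hP fun y hy => by
      obtain ⟨x, rfl⟩ := QuotientGroup.mk_surjective y
      obtain ⟨u, hu, c, hc, e⟩ := fx_lift hNQ hQN haN
        (cop_zp hr hrp (by rwa [pow_one] : a ^ r ^ 1 = 1) (hQ.to_le hNQ)) x.2 ((hφ _ _).1 hy)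
      exact (QuotientGroup.eq_one_iff _).2 (mem_subgroupOf.2 (e ▸ mul_mem hu (hf hc))))
    (pim_norm (f := φ) _ haH) (fun e => hrH (e.trans pim_card)) fun z _ => frRep_ker hP
  rw [← pim_zp (f := φ) ⟨haQ, haN⟩, ← pim_comm hH (zp_le ⟨haQ, haN⟩)] at key
  refine commutator_le.2 fun x hx e he => (hφ ⟨e, ((hEH.trans (kk_le haH)).trans hH) he⟩ ⟨x, hx⟩).1 ?_
  rw [pim_perfect hE ((hEH.trans (kk_le haH)).trans hH) key (pim_mono hEH) he]; rfl

omit [Finite Γ] in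
theorem le_cent_of_comm {A B : Subgroup Γ} (hA : ⁅A, A⁆ = A) (h : ⁅B, A⁆ ≤ centralizer (A : Set Γ)) :
    B ≤ centralizer (A : Set Γ) :=
  commutator_eq_bot_iff_le_centralizer.1
    (Core.commutator_eq_bot_of_perfect hA (commutator_eq_bot_iff_le_centralizer.2 h))

/-- The layer of `H = [H, a]` centralizes the `H ⟨a⟩`-invariant `p`-subgroups whose fixed points normalize `H`. -/
theorem lay_cent {p : ℕ} [Fact p.Prime] (hr : r.Prime) (hrp : r ≠ p) (ha : a ^ r = 1) {Q H : Subgroup Γ}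
    (hQ : IsPGroup p Q) (hHQ : H ≤ 𝒩(Q)) (haQ : a ∈ 𝒩(Q)) (haH : a ∈ 𝒩(H)) (hrH : ¬ r ∣ Nat.card H)
    (hc : ⁅H, zpowers a⁆ = H) (hf : fx a Q ≤ 𝒩(H)) : lay H ≤ centralizer (Q : Set Γ) := by
  induction Q using WellFoundedLT.induction with
  | _ Q ih =>
  by_cases h0 : Q = ⊥
  · rw [h0]; simp
  have h1 := Coprime.commutator_lt_of_isPGroup hQ hQ le_normalizer h0
  have h2 := le_centralizer_iff.1 (ih _ h1 (hQ.to_le h1.le) (fun g hg => norm_comm (hHQ hg) (hHQ hg))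
    (norm_comm haQ haQ) ((inf_le_inf_right _ h1.le).trans hf))
  have pf := Comp.layerOf_perfect H
  have hE : lay H ≤ H := map_subtype_le _
  have nE := Comp.normalizer_le_normalizer_layerOf H
  have nN : ∀ g : Γ, g ∈ 𝒩(Q) → g ∈ 𝒩(H) → g ∈ 𝒩(Q ⊓ centralizer (lay H : Set Γ)) := by
    exact fun g h3 h4 => norm_inf h3 (norm_cent (nE h4))
  have h3 : fx a Q ≤ centralizer (lay H : Set Γ) := le_cent_of_comm pf ((le_inf
    ((commutator_comm _ _).trans_le (Coprime.commutator_le_of_le_normalizer (hf.trans nE))) ((commutator_mono fx_le le_rfl).trans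
      (Coprime.commutator_le_of_le_normalizer (hE.trans hHQ)))).trans (le_centralizer_iff.1
    (Comp.layerOf_le_centralizer_of_solvable (inf_le_left.trans hE)
      (Coprime.isSolvable_of_isPGroup (hQ.to_le inf_le_right))
      fun g hg => norm_inf (norm_of_mem hg) (hHQ (hE hg)))))
  exact le_centralizer_iff.1 (le_cent_of_comm pf ((perfect_le hr hrp ha hQ inf_le_left
    (Core.le_normalizer_of_commutator_le_of_le (le_inf h1.le h2) inf_le_left) hHQ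
    (fun g hg => nN g (hHQ hg) (norm_of_mem hg)) haQ (nN a haQ haH) haH hrH (le_inf fx_le h3) pf
    (hE.trans hc.ge)).trans inf_le_right))

omit [Finite Γ] in
theorem comm_le_cent {L K K' : Subgroup Γ} (hK : K ≤ 𝒩(L)) (hK' : K' ≤ 𝒩(L)) (h : ⁅K', K⁆ = ⊥) :
    ⁅K' ⊔ centralizer (L : Set Γ), K⁆ ≤ centralizer (L : Set Γ) :=
  Core.commutator_sup_left_le (fun _ hg => norm_cent (hK' hg)) le_normalizer (h ▸ bot_le)
    (Coprime.commutator_le_of_le_normalizer fun _ hg => norm_cent (hK hg))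

theorem pj (hr : r.Prime) (ha : a ^ r = 1) {L M E : Subgroup Γ} (hrL : ¬ r ∣ Nat.card L) (haL : a ∈ 𝒩(L))
    (haM : a ∈ 𝒩(M)) (hM : M ≤ L ⊔ centralizer (L : Set Γ)) (hf : fx a L ≤ centralizer (M : Set Γ))
    (hE : ⁅E, E⁆ = E) (hEM : E ≤ M) : E ≤ centralizer (L : Set Γ) := by
  have nL : M ≤ 𝒩(L) := hM.trans (sup_le le_normalizer (centralizer_le_normalizer _))
  set P := L ⊓ (M ⊔ centralizer (L : Set Γ))
  have aP : a ∈ 𝒩(P) := norm_inf haL (norm_sup haM (norm_cent haL))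
  have cP : centralizer (L : Set Γ) ≤ centralizer (P : Set Γ) := centralizer_le inf_le_left
  have h1 : ∀ e ∈ E, ∃ l ∈ P, ∃ c ∈ centralizer (L : Set Γ), l * c = e := fun e he => by
    obtain ⟨l, hl, c, hc, rfl⟩ :=
      (Core.mem_sup_of_le_normalizer_left (centralizer_le_normalizer _)).1 (hM (hEM he))
    exact ⟨l, ⟨hl, (mul_mem_cancel_right (mem_sup_right hc)).1 (mem_sup_left (hEM he))⟩, c, hc, rfl⟩
  have EP : E ≤ 𝒩(P) := fun e he => norm_inf (nL (hEM he)) (norm_of_mem (mem_sup_left (hEM he)))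
  have hk : ∀ g : 𝒩(P), P.normalizerMonoidHom g = 1 ↔ g.1 ∈ centralizer (P : Set Γ) := fun g => by
    rw [← MonoidHom.mem_ker, normalizerMonoidHom_ker, mem_subgroupOf]
  have nil := Frob.isNilpotent_of_fpf (pim_norm (f := P.normalizerMonoidHom) aP aP) (eq_bot_iff.2 (by
    rintro _ ⟨⟨⟨x, hx'⟩, hx, rfl⟩, e⟩
    have e1 := (hk ⁅(⟨x, hx'⟩ : normalizer (P : Set Γ)), ⟨a, aP⟩⁆).1 (by rw [map_commutatorElement]; exact comm_one (mem_cent.1 e).symm)
    obtain ⟨u, hu, c, hc, rfl⟩ := fx_lift zz_le (fun _ => le_norm_zz) (norm_zz aP)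
      (cop_of_pow hr ha hrL (zz_le.trans inf_le_left)) hx ⟨comm_mem_left aP hx, e1⟩
    exact (hk _).2 (mul_mem hu.2 (le_centralizer_iff.1 (inf_le_right.trans (sup_le
      (le_centralizer_iff.1 hf) (centralizer_le fx_le))) ⟨hc.1.1, hc.2⟩)))) hr (by
      rw [← map_pow, show (⟨a, aP⟩ : 𝒩(P)) ^ r = 1 from Subtype.ext ha, map_one]; exact one_mem _)
  have h2 : E ≤ centralizer (P : Set Γ) := fun e he => (hk ⟨e, EP he⟩).1
    (pim_perfect hE EP (S := pim P.normalizerMonoidHom P) inferInstance (by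
      rintro _ ⟨⟨x, hx'⟩, hx, rfl⟩
      obtain ⟨l, hl, c, hc, rfl⟩ := h1 x hx
      rw [show (⟨l * c, hx'⟩ : 𝒩(P)) = ⟨l, norm_of_mem hl⟩ * ⟨c, centralizer_le_normalizer _ (cP hc)⟩ from rfl,
        map_mul, (hk ⟨c, _⟩).2 (cP hc), mul_one]
      exact mem_pim _ hl) he)
  refine hE.ge.trans ((commutator_mono (fun e he => ?_) le_rfl).trans (comm_le_cent (hEM.trans nL)
    (inf_le_left.trans le_normalizer) (commutator_eq_bot_iff_le_centralizer.2 (le_centralizer_iff.1 h2))))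
  obtain ⟨l, hl, c, hc, rfl⟩ := h1 e he
  exact mul_mem_sup hl hc

end CfsgLib.FLA
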