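import Mathlib
import Cfsg.Agent.Lib.FLA.Defs

/-!
The eigenvalues of `a` on the modules on which an element of `E` acts as `-1`.
-/

set_option autoImplicit false
set_option linter.unusedSectionVars false

namespace CfsgLib.FLA

open Subgroup Cfsg CfsgLib.Tech CfsgLib.Flav
open scoped commutatorElement

variable {F : Type*} [Field F] [IsAlgClosed F] {V : Type*} [AddCommGroup V] [Module F V] [FiniteDimensional F V]
  {Γ : Type*} [Group Γ] [Finite Γ] (ρ : Representation F Γ V) {r : ℕ} {a : Γ} {E : Subgroup Γ}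

theorem not_powIndep {A : Type*} [AddCommGroup A] [Module F A] (T : Module.End F A) (hr : 2 ≤ r)
    (h0 : ∑ i ∈ Finset.range r, T ^ i = 0) {μ : F} (hμ : μ ^ r = 1) (hμ1 : μ ≠ 1)
    (hinj : ∀ v, T v = μ • v → v = 0) : ¬ HH.PowIndep (F := F) T (r - 1) := by
  intro h
  set P : Polynomial F := ∑ i ∈ Finset.range r, Polynomial.X ^ i with hP
  have hroot : P.IsRoot μ := by
    have h1 : (μ - 1) * ∑ i ∈ Finset.range r, μ ^ i = 0 := by rw [mul_geom_sum, hμ, sub_self]
    simpa [hP, Polynomial.eval_finsetSum] using (mul_eq_zero.1 h1).resolve_left (sub_ne_zero.2 hμ1)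
  have hfac := Polynomial.mul_divByMonic_eq_iff_isRoot.2 hroot
  set g := P /ₘ (Polynomial.X - Polynomial.C μ) with hg
  have hdP : P.natDegree ≤ r - 1 := Polynomial.natDegree_sum_le_of_forall_le _ _ fun i hi => by
    rw [Polynomial.natDegree_X_pow]
    have := Finset.mem_range.1 hi
    omega
  have hdg : g.natDegree < r - 1 := by
    rw [hg, Polynomial.natDegree_divByMonic _ (Polynomial.monic_X_sub_C μ), Polynomial.natDegree_X_sub_C]
    omega
  have hPT : Polynomial.aeval T P = 0 := by simpa [hP] using h0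
  have hgT : Polynomial.aeval T g = 0 := by
    ext v
    apply hinj
    rw [← hfac, map_mul] at hPT
    have := LinearMap.congr_fun hPT v
    simpa [sub_eq_zero, Module.algebraMap_end_apply] using this
  rw [Polynomial.aeval_eq_sum_range' hdg] at hgT
  have hg0 : g = 0 := by
    ext i
    by_cases hi : i < r - 1
    · exact h _ hgT i hi
    · exact Polynomial.coeff_eq_zero_of_natDegree_lt (by omega)
  rw [hg0, mul_zero] at hfac
  have h1 : P.eval 0 = 1 := by
    obtain ⟨k, rfl⟩ : ∃ k, r = k + 1 := ⟨r - 1, by omega⟩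
    simp [hP, Polynomial.eval_finsetSum, Finset.sum_range_succ']
  rw [← hfac] at h1
  simp at h1

theorem m0 (h2 : (2 : F) ≠ 0) (hr : r.Prime) (hr2 : r ≠ 2) (ha : a ^ r = 1) (hfix : ∀ v, ρ a v = v → v = 0)
    (hE : IsPGroup 2 E) (haE : a ∈ 𝒩(E)) (hc : ⁅E, zpowers a⁆ = E) {U : Submodule F V} (hU : U ≠ ⊥)
    (hUE : ∀ g ∈ E, ∀ v ∈ U, ρ g v ∈ U) (hUa : ∀ v ∈ U, ρ a v ∈ U) {u : Γ} (hu : u ∈ E)
    (hneg : ∀ v ∈ U, ρ u v = -v) {μ : F} (hμ : μ ^ r = 1) (hμ1 : μ ≠ 1) : ∃ v ∈ U, v ≠ 0 ∧ ρ a v = μ • v := by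
  have : Fact (Nat.Prime 2) := ⟨Nat.prime_two⟩
  set H := HH.stab ρ U with hH
  set σ := HH.subRep ρ U with hσ
  have hEH : E ≤ H := fun g hg => hUE g hg
  let a' : H := ⟨a, hUa⟩
  have ha' : a' ^ r = 1 := Subtype.ext ha
  have hT : σ a' ^ r = 1 := by rw [← map_pow, ha', map_one]
  have hfix' : ∀ v, σ a' v = v → v = 0 := fun v hv => Subtype.ext (hfix v (congrArg Subtype.val hv))
  have hnt : ∃ g ∈ E.subgroupOf H, σ a' * σ g ≠ σ g * σ a' := by
    by_contra hn
    push Not at hn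
    have haK : a ∈ 𝒩(σ.ker.map H.subtype) := mem_norm fun x ⟨y, hy, e⟩ =>
      ⟨a' * y * a'⁻¹, (MonoidHom.normal_ker σ).conj_mem y hy a', by rw [← e]; rfl⟩
    have h1 : E ≤ σ.ker.map H.subtype := hc.ge.trans (comm_zp_le haK fun x hx =>
      ⟨a' * ⟨x, hEH hx⟩ * a'⁻¹ * (⟨x, hEH hx⟩ : H)⁻¹,
        (HH.comm_iff_apply_eq_one σ a' ⟨x, hEH hx⟩).1 (hn ⟨x, hEH hx⟩ hx), rfl⟩)
    obtain ⟨y, hy, e⟩ := h1 hu
    obtain ⟨v, hv, hv0⟩ := Submodule.exists_mem_ne_zero_of_ne_bot hU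
    have h3 : ρ u v = v := by
      have := congrArg Subtype.val (LinearMap.congr_fun (MonoidHom.mem_ker.1 hy) ⟨v, hv⟩)
      rw [← e]; exact this
    rw [hneg v hv] at h3
    have h4 : (2 : F) • v = 0 := by rw [two_smul]; nth_rewrite 1 [← h3]; exact neg_add_cancel v
    exact hv0 ((smul_eq_zero.1 h4).resolve_left h2)
  have hpi : HH.PowIndep (F := F) (σ a') (r - 1) := by
    rcases HH.hh (q := 2) hr hr2 (by exact_mod_cast h2) σ (E.subgroupOf H) a' 0 hE.comap_subtype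
      (HH.mem_normalizer_subgroupOf haE) (by simpa using hT) (by simpa using hnt) with
      h | ⟨c, b, k, e1, e2, -, -, -, h⟩
    · exact h.mono (by simp)
    · obtain rfl : b = 1 := by omega
      obtain rfl : c = 0 := by omega
      simpa using h
  by_contra hn
  push Not at hn
  refine not_powIndep (σ a') hr.two_le (HH.sum_pow_eq_zero_of_fixed _ r hT hfix') hμ hμ1 (fun v hv => ?_) hpi
  by_contra h0
  exact hn v v.2 (fun e => h0 (Subtype.ext e)) (congrArg Subtype.val hv)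

/-- The twisted averages of the conjugates of `y`. -/
noncomputable def phi (r : ℕ) (a y : Γ) (ν : F) : Module.End F V :=
  ∑ i ∈ Finset.range r, ν ^ i • ρ (a ^ i * y * (a ^ i)⁻¹)

theorem phi_shift (ha : a ^ r = 1) (y : Γ) {ν : F} (hν : ν ^ r = 1) :
    ν • (ρ a * phi ρ r a y ν) = phi ρ r a y ν * ρ a := by
  have h1 : ∀ i : ℕ, ν • (ρ a * (ν ^ i • ρ (a ^ i * y * (a ^ i)⁻¹))) =
      (ν ^ (i + 1) • ρ (a ^ (i + 1) * y * (a ^ (i + 1))⁻¹)) * ρ a := fun i => by
    rw [mul_smul_comm, smul_smul, smul_mul_assoc, ← map_mul, ← map_mul, ← pow_succ']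
    congr 2
    rw [pow_succ']; group
  rw [phi, Finset.mul_sum, Finset.smul_sum, Finset.sum_congr rfl fun i _ => h1 i, ← Finset.sum_mul]
  congr 1
  have h2 := Finset.sum_range_succ (fun i => ν ^ i • ρ (a ^ i * y * (a ^ i)⁻¹)) r
  rw [Finset.sum_range_succ', hν, ha] at h2
  simpa using h2

theorem phi_pow (ha : a ^ r = 1) (y : Γ) {ν : F} (hν : ν ^ r = 1) (i : ℕ) (w : V) :
    ν ^ i • (ρ a ^ i) (phi ρ r a y ν w) = phi ρ r a y ν ((ρ a ^ i) w) := by
  induction i generalizing w with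
  | zero => simp
  | succ i ih =>
    have h1 := LinearMap.congr_fun (phi_shift ρ ha y hν) ((ρ a ^ i) w)
    simp only [LinearMap.smul_apply, Module.End.mul_apply] at h1
    rw [pow_succ' (ρ a), Module.End.mul_apply, Module.End.mul_apply, ← h1, ← ih, map_smul, smul_smul, pow_succ']

theorem phi_comm {Y : Subgroup Γ} (haY : a ∈ 𝒩(Y)) (hY : Y ≤ centralizer (E : Set Γ)) {y : Γ} (hy : y ∈ Y)
    (ν : F) {g : Γ} (hg : g ∈ E) (w : V) : ρ g (phi ρ r a y ν w) = phi ρ r a y ν (ρ g w) := by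
  simp only [phi, LinearMap.sum_apply, map_sum, LinearMap.smul_apply, map_smul]
  refine Finset.sum_congr rfl fun i _ => ?_
  rw [← Module.End.mul_apply, ← Module.End.mul_apply, ← map_mul, ← map_mul,
    hY (cj_mem (pow_mem haY i) hy) g hg]

theorem sum_phi (hr : r.Prime) (y : Γ) {ω : F} (hω : IsPrimitiveRoot ω r) :
    ∑ k ∈ Finset.range r, phi ρ r a y (ω ^ k) = (r : F) • ρ y := by
  simp only [phi]
  rw [Finset.sum_comm, Finset.sum_eq_single 0]
  · simp [Nat.cast_smul_eq_nsmul]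
  · intro i hi hi0
    have h1 : IsPrimitiveRoot (ω ^ i) r := hω.pow_of_coprime i
      ((Nat.coprime_of_lt_prime hi0 (Finset.mem_range.1 hi) hr).symm)
    rw [← Finset.sum_smul, Finset.sum_congr rfl fun k _ => pow_right_comm ω k i, h1.geom_sum_eq_zero hr.one_lt,
      zero_smul]
  · intro h; exact absurd (Finset.mem_range.2 hr.pos) h

theorem m1' (h2 : (2 : F) ≠ 0) (hr : r.Prime) (hr2 : r ≠ 2) (hrF : (r : F) ≠ 0) (ha : a ^ r = 1)
    (hfix : ∀ v, ρ a v = v → v = 0) (hE : IsPGroup 2 E) (haE : a ∈ 𝒩(E)) (hc : ⁅E, zpowers a⁆ = E) {u : Γ}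
    (hu : u ∈ E) (hau : Commute a u) (huE : ∀ x ∈ E, Commute u x) {Y : Subgroup Γ} (haY : a ∈ 𝒩(Y))
    (hY : Y ≤ centralizer (E : Set Γ)) {y : Γ} (hy : y ∈ Y) {v : V} (hv : ρ u v = -v) :
    ρ a (ρ y v) = ρ y (ρ a v) := by
  set N : Submodule F V := LinearMap.ker (ρ u + 1) with hN
  have memN : ∀ w, w ∈ N ↔ ρ u w = -w := fun w => by
    rw [hN, LinearMap.mem_ker, LinearMap.add_apply, Module.End.one_apply, add_eq_zero_iff_eq_neg]
  have inv : ∀ g, Commute u g → ∀ w ∈ N, ρ g w ∈ N := fun g hg w hw => by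
    rw [memN, ← Module.End.mul_apply, ← map_mul, hg.eq, map_mul, Module.End.mul_apply, (memN w).1 hw, map_neg]
  have zero : ∀ ν : F, ν ^ r = 1 → ν ≠ 1 → ∀ w ∈ N, phi ρ r a y ν w = 0 := by
    intro ν hν hν1
    have hν0 : ν ≠ 0 := fun e => by rw [e, zero_pow hr.ne_zero] at hν; exact zero_ne_one hν
    have h1 : N.map (phi ρ r a y ν) = ⊥ := by
      by_contra hU
      obtain ⟨_, ⟨w, hw, rfl⟩, h0, e⟩ := m0 ρ h2 hr hr2 ha hfix hE haE hc hU (u := u) (μ := ν⁻¹)
        (by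
          rintro g hg _ ⟨w, hw, rfl⟩
          exact ⟨ρ g w, inv g (huE g hg) w hw, (phi_comm ρ haY hY hy ν hg w).symm⟩)
        (by
          rintro _ ⟨w, hw, rfl⟩
          refine ⟨ν⁻¹ • ρ a w, N.smul_mem _ (inv a hau.symm w hw), ?_⟩
          have := phi_pow ρ ha y hν 1 w
          rw [pow_one, pow_one] at this
          rw [map_smul, ← this, smul_smul, inv_mul_cancel₀ hν0, one_smul])
        hu (by
          rintro _ ⟨w, hw, rfl⟩
          rw [phi_comm ρ haY hY hy ν hu w, (memN w).1 hw, map_neg])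
        (by rw [inv_pow, hν, inv_one]) (fun e => hν1 (inv_eq_one.1 e))
      have h3 : ∀ i : ℕ, (ρ a ^ i) (phi ρ r a y ν w) = ν⁻¹ ^ i • phi ρ r a y ν w := fun i => by
        induction i with
        | zero => simp
        | succ i ih => rw [pow_succ' (ρ a), Module.End.mul_apply, ih, map_smul, e, smul_smul, pow_succ]
      have h4 : ∀ i : ℕ, phi ρ r a y ν ((ρ a ^ i) w) = phi ρ r a y ν w := fun i => by
        rw [← phi_pow ρ ha y hν, h3, smul_smul, ← mul_pow, mul_inv_cancel₀ hν0, one_pow, one_smul]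
      have h5 := HH.sum_pow_eq_zero_of_fixed (ρ a) r (by rw [← map_pow, ha, map_one]) hfix
      have h6 : (r : F) • phi ρ r a y ν w = 0 := by
        have := congrArg (phi ρ r a y ν) (LinearMap.congr_fun h5 w)
        rw [LinearMap.sum_apply, map_sum, Finset.sum_congr rfl fun i _ => h4 i] at this
        simpa [Nat.cast_smul_eq_nsmul] using this
      exact h0 ((smul_eq_zero.1 h6).resolve_left hrF)
    intro w hw
    exact (Submodule.mem_bot F).1 (h1 ▸ Submodule.mem_map_of_mem hw)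
  have : NeZero (r : F) := ⟨hrF⟩
  have : NeZero r := ⟨hr.ne_zero⟩
  obtain ⟨ω, hω⟩ := HasEnoughRootsOfUnity.exists_primitiveRoot F r
  have key : ∀ w ∈ N, (r : F) • ρ y w = phi ρ r a y 1 w := fun w hw => by
    have := LinearMap.congr_fun (sum_phi ρ (a := a) hr y hω) w
    rw [LinearMap.sum_apply, Finset.sum_eq_single 0, pow_zero] at this
    · exact this.symm
    · intro k hk hk0
      exact zero _ (by rw [pow_right_comm, hω.pow_eq_one, one_pow])
        (hω.pow_ne_one_of_pos_of_lt hk0 (Finset.mem_range.1 hk)) w hw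
    · intro h; exact absurd (Finset.mem_range.2 hr.pos) h
  have hv' := (memN v).2 hv
  have h1 := phi_pow ρ ha y (one_pow r) 1 v
  rw [pow_one, pow_one, one_smul, ← key v hv', ← key _ (inv a hau.symm v hv'), map_smul] at h1
  exact smul_right_injective V hrF h1

end CfsgLib.FLA
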