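import Mathlib
import Cfsg.Agent.Lib.FLA.Odd
import Cfsg.Agent.Lib.Flav.Red2

/-!
In the minimal configuration `G` is simple modulo its centre.
-/

set_option autoImplicit false
set_option linter.unusedSectionVars false

namespace CfsgLib.FLA

open Subgroup Cfsg CfsgLib.Tech CfsgLib.Flav
open scoped commutatorElement

variable {Γ : Type*} [Group Γ] [Finite Γ] {p : ℕ} [Fact p.Prime]

namespace Rq

variable {r : ℕ} {G : Subgroup Γ} {a : Γ} (h : Rq p r G a)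
include h

theorem card_zp : Nat.card (zpowers a) = r := by
  have := Fact.mk h.hr
  rw [Nat.card_zpowers]
  refine orderOf_eq_prime h.ha fun e => h.not2 ?_
  rw [← h.gen, e, zpowers_one_eq_bot, commutator_bot_right]
  exact IsPGroup.of_bot

theorem zp_eq {b : Γ} (hb : b ∈ zpowers a) (h1 : b ≠ 1) : zpowers b = zpowers a := by
  refine Core.eq_of_le_of_card_le (zp_le hb) ?_
  have h2 := card_dvd_of_le (zp_le hb)
  rw [h.card_zp] at h2 ⊢
  exact ((h.hr.eq_one_or_self_of_dvd _ h2).resolve_left fun e => h1 (zpowers_eq_bot.1 (card_eq_one.1 e))).ge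

theorem two_kk {N : Subgroup Γ} (hN : N ≤ G) (hne : N ≠ G) (hn : G ≤ 𝒩(N)) (ha : a ∈ 𝒩(N)) :
    IsPGroup 2 ↥⁅N, zpowers a⁆ := by
  obtain ⟨U, hU, haU⟩ := h.syl0 2 hN ha
  have h1 : yy p a N ≤ ⊥ := (Core.map_pCore_le_map_pCore (kk_le ha) (normalizer_commutator_ge_left _ _)).trans
    (h.triv _ ((map_subtype_le _).trans hN) (Core.isPGroup_map_pCore N)
      (hn.trans (Core.normalizer_le_normalizer_map_pCore N)) (Core.normalizer_le_normalizer_map_pCore N ha)).le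
  rw [h.kk_eq hN hne ha hU haU, le_bot_iff.1 h1, bot_sup_eq]
  exact hU.pgroup.to_le (kk_le haU)

theorem kk_le_two {N : Subgroup Γ} (hN : N ≤ G) (hne : N ≠ G) (hn : G ≤ 𝒩(N)) (ha : a ∈ 𝒩(N)) :
    ⁅N, zpowers a⁆ ≤ pCoreOf 2 G :=
  (Core.le_map_pCore (kk_le ha) (normalizer_commutator_ge_left _ _) (h.two_kk hN hne hn ha)).trans
    (Core.map_pCore_le_map_pCore hN hn)

theorem comm_of_kk {N : Subgroup Γ} (hN : N ≤ G) (ha : a ∈ 𝒩(N)) (e : ∀ x ∈ ⁅N, zpowers a⁆, Commute a x) :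
    ∀ x ∈ N, Commute a x := fun x hx =>
  (Coprime.le_centralizer_of_commutator_le_centralizer (zp_le ha) (h.cop hN) (fun y hy => cent_zp.2 (e y hy))
    (mem_zpowers a) x hx).symm

theorem zz_bot {P : Subgroup Γ} (hP : IsPGroup p P) (e : P ≤ zz G) : P = ⊥ :=
  h.triv P (e.trans zz_le) hP (fun _ hg => norm_of_comm fun _ hx => zz_comm (e hx) hg)
    (norm_of_comm fun _ hx => h.aZ (e hx))

theorem syl_ne {P : Subgroup Γ} (hP : IsSylowIn p P G) (haP : a ∈ 𝒩(P)) : ¬ ∀ x ∈ P, Commute a x := fun e => by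
  obtain ⟨T, hT, haT⟩ := h.syl0 2 le_rfl h.aG
  exact h.not2 (h.step0 hT haT hT.le haT (kk_le haT) hP haP (comm_zp_le haT fun x hx => by
    rw [comm_one (e x hx)]; exact one_mem _) ▸ hT.pgroup)

/-- The case that `a` does not centralize `O₂(G)`. -/
theorem solv {Q : Subgroup Γ} (hQ : Q ≤ G) (h2 : IsPGroup 2 Q) (haQ : a ∈ 𝒩(Q)) (hn : G ≤ 𝒩(Q))
    (hC : G ⊓ centralizer (Q : Set Γ) ≤ zz G) : ∀ x ∈ Q, Commute a x := by
  by_contra hna
  obtain ⟨P, hP, haP⟩ := h.syl0 p le_rfl h.aG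
  have hP1 : P ≠ ⊥ := fun e => h.syl_ne hP haP fun x hx => by rw [mem_bot.1 (e.le hx)]; exact Commute.one_right a
  have hpQ : (Nat.card Q).Coprime p := Core.isPGroup_coprime_card h2
    ((Nat.coprime_primes Fact.out Nat.prime_two).2 h.hp)
  have hi : P ⊓ Q = ⊥ := h.inf_eq_bot hP.pgroup h2
  have hy : ∀ M ≤ Q, ∀ U ≤ P, G ≤ 𝒩(M) → a ∈ 𝒩(M) → a ∈ 𝒩(U) → M ⊔ U ≠ G →
      ⁅U, zpowers a⁆ ≤ centralizer (M : Set Γ) := fun M hM U hU h1 h3 h4 h5 =>
    have h6 := sup_le (hM.trans hQ) (hU.trans hP.le)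
    (h.kk_le_yy h6 h5 (norm_sup h3 h4) (hP.pgroup.to_le hU) le_sup_right h4).trans
      (Core.le_centralizer_of_le_normalizer_of_disjoint ((((yy_le _ _ _).trans (kk_le (norm_sup h3 h4))).trans
        h6).trans h1) (le_sup_left.trans (le_norm_yy _ _ _)) (h.inf_eq_bot (yy_pg _ _ _) (h2.to_le hM)))
  have hP0 : ∀ U ≤ P, a ∈ 𝒩(U) → Q ⊔ U ≠ G → ∀ x ∈ U, Commute a x := fun U hU h1 h3 =>
    h.comm_of_kk (hU.trans hP.le) h1 fun x hx => h.aZ (hC ⟨hP.le (hU (kk_le h1 hx)), hy Q le_rfl U hU hn haQ h1 h3 hx⟩)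
  have hG : Q ⊔ P = G := by_contra fun e => h.syl_ne hP haP (hP0 P le_rfl haP e)
  have hd : ∀ U ≤ P, Q ⊔ U = G → U = P := fun U hU e => by
    have := Core.sup_inf_assoc_of_le_normalizer (B := Q) hU ((hU.trans hP.le).trans hn)
    rwa [sup_comm, e, inf_eq_right.2 hP.le, inf_comm, hi, sup_bot_eq, eq_comm] at this
  have hPP : ⁅P, zpowers a⁆ = P := hd _ (kk_le haP) (h.step0 (T := Q)
    (by rw [← hG, sup_comm]; exact syl_sup h.hp hP.pgroup h2 (.inr (hP.le.trans hn))) haQ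
    (sup_le hQ ((kk_le haP).trans hP.le)) (norm_sup haQ (a_norm_kk a P)) ((kk_le haQ).trans le_sup_left) hP haP
    le_sup_right)
  have h1 : ∀ M ≤ Q, M ≠ Q → G ≤ 𝒩(M) → a ∈ 𝒩(M) → M ≤ zz G := fun M hM hne h1 h3 => by
    have h4 := hy M hM P le_rfl h1 h3 haP fun e => hne (by
      have := Core.sup_inf_assoc_of_le_normalizer' hM (hP.le.trans h1)
      rw [e, hi, sup_bot_eq, inf_eq_right.2 hQ] at this
      exact this.symm)
    refine le_zz (hM.trans hQ) (inf_eq_left.1 (by_contra fun e => hP1 ?_))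
    rw [← h.inf_eq_bot hP.pgroup (h.two_kk inf_le_left e (fun g hg => norm_inf (norm_of_mem hg) (norm_cent (h1 hg)))
      (norm_inf h.aG (norm_cent h3))), eq_comm, inf_eq_left]
    exact hPP.ge.trans (commutator_mono (le_inf hP.le (hPP.ge.trans h4)) le_rfl)
  have h3 : ⁅Q, Q⁆ ≤ zz G := by
    have := Coprime.commutator_lt_of_isPGroup h2 h2 le_normalizer (by rintro rfl; simp at hna)
    exact h1 _ this.le this.ne (fun g hg => norm_comm (hn hg) (hn hg)) (norm_comm haQ haQ)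
  have h3' : ∀ x ∈ Q, ∀ y ∈ Q, ⁅x, y⁆ ∈ zz G := fun x hx y hy => h3 (commutator_mem_commutator hx hy)
  have hz : ∀ z ∈ zz P, Commute a z → z = 1 := fun z hz haz => by
    by_contra hz1
    have h4 : ∀ g ∈ 𝒩(Q), Commute g z → g ∈ 𝒩(fx z Q) := fun g hg e => mem_norm fun x hx =>
      mem_fx.2 ⟨cj_mem hg hx.1, by simpa only [comm_conj_eq e] using (fx_comm hx).conj g⟩
    have h5 := h1 (fx z Q) fx_le (fun e => hz1 (mem_bot.1 ((h.zz_bot (isPGroup_zpowers_of_mem hP.pgroup hz.1)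
      (zp_le (hC ⟨hP.le hz.1, fun x hx => (fx_comm (e.ge hx)).symm⟩))).le (mem_zpowers z))))
      (hG.ge.trans (sup_le (fun g hg => mem_norm_of_comm fun x hx => mem_fx.2
        ⟨comm_mem_right (norm_of_mem hg) hx.1, zz_comm (h3' g hg x hx.1) (hP.le hz.1)⟩)
        fun g hg => h4 g (hn (hP.le hg)) (zz_comm hz hg))) (h4 a haQ haz)
    have h6 := kk_le haQ
    by_cases h7 : ⁅Q, zpowers a⁆ = ⊥
    · exact hna fun x hx => of_comm_one (mem_bot.1 (h7 ▸ comm_mem_zp hx))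
    obtain ⟨q, rfl, k⟩ := h.sp _ (h6.trans hQ) (h2.to_le h6) (a_norm_kk a Q) (h.kk_kk hQ haQ) h7
    obtain ⟨n, hn'⟩ := isPGroup_iff_mem.1 hP.pgroup z hz.1
    exact hna (h.comm_of_kk hQ haQ fun x hx => h.aZ (h5 (mem_fx.2 ⟨h6 hx, sp_odd k (norm_comm (hn (hP.le hz.1))
      (norm_of_comm fun y hy => (cent_zp.2 haz y hy).symm)) haz Fact.out h.hp h.hrp.symm hn' (fun w hw => zz_comm
        (h3 (commutator_mono h6 h6 (fx_le_comm k.norm (h.cop (h6.trans hQ)) k.comm hw))) (hP.le hz.1)) x hx⟩)))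
  have hf : ∀ u ∈ P, Commute a u → u = 1 := fun u hu => hz u ((hd _ zz_le (by_contra fun e =>
    Coprime.inf_centralizer_ne_bot_of_isPGroup hP.pgroup P hP.pgroup le_normalizer hP1 (eq_bot_iff.2 fun x hx =>
      hz x hx (hP0 _ zz_le (norm_zz haP) e x hx)))).ge hu)
  have hc : ¬ P ≤ centralizer (Q : Set Γ) := fun e => hP1 (h.zz_bot hP.pgroup ((le_inf hP.le e).trans hC))
  have h4 : zz Q ≤ zz G := h1 _ zz_le (fun e => hna (h.cr 2 Nat.prime_two h.hp.symm Q hQ h2 haQ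
    (.inr fun x hx y hy => zz_comm (e.ge hy) hx))) (fun g hg => norm_zz (hn hg)) (norm_zz haQ)
  have h5 : Q ⊓ centralizer (P : Set Γ) = Q ⊓ zz G := by
    refine le_antisymm (le_inf inf_le_left (h1 _ inf_le_left (fun e => hc (le_centralizer_iff.1
      (e.ge.trans inf_le_right))) (hG.ge.trans (sup_le (fun g hg => mem_norm_of_comm fun x hx =>
        ⟨comm_mem_right (norm_of_mem hg) hx.1, zz_le_cent hP.le (h3' g hg x hx.1)⟩) fun g hg =>
        norm_inf (hn (hP.le hg)) (norm_cent (norm_of_mem hg)))) (norm_inf haQ (norm_cent haP))))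
      (inf_le_inf_left _ (zz_le_cent hP.le))
  have h6 : Q ⊓ zz G ≤ fx a Q := fun x hx => mem_fx.2 ⟨hx.1, h.aZ hx.2⟩
  have hw := PF.wielandt_frobenius P (zpowers a) Q (Core.inf_eq_bot_of_coprime_card (h.cop hP.le).symm) (zp_le haP)
    (fun b hb hb1 u hu e => hf u hu (by
      obtain ⟨k, hk⟩ := mem_zpowers_iff.1 ((h.zp_eq hb hb1).ge (mem_zpowers a))
      exact hk ▸ Commute.zpow_left e k))
    (sup_le (hP.le.trans hn) (zp_le haQ)) (Coprime.isSolvable_of_isPGroup h2)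
    (by rw [sup_comm]
        exact (Nat.Coprime.mul_right (h.cop hQ).symm (Core.isPGroup_coprime_card hP.pgroup hpQ).symm).coprime_dvd_right
          (Core.card_sup_dvd_of_le_normalizer (zp_le haP)))
  rw [Core.centralizer_sup, ← inf_assoc, h5, Core.centralizer_zpowers, h.card_zp,
    inf_eq_left.2 (h6.trans inf_le_right)] at hw
  have hE : ⁅Q, zpowers a⁆ ≤ Q := Coprime.commutator_le_of_le_normalizer (zp_le haQ)
  have hE1 : ⁅Q, zpowers a⁆ ≠ ⊥ := fun e => hna fun x hx => of_comm_one (mem_bot.1 (e ▸ comm_mem_zp hx))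
  have hsup := Coprime.commutator_sup_centralizer (zp_le haQ) (h.cop hQ) (.inl (Coprime.isSolvable_zpowers a))
  obtain ⟨q, rfl, k⟩ := h.sp _ (hE.trans hQ) (h2.to_le hE) (norm_comm haQ (norm_zp a))
    (Coprime.commutator_commutator_eq (zp_le haQ) (h.cop hQ)) hE1
  have hQE := normalizer_commutator_ge_left Q (zpowers a)
  rw [Core.centralizer_zpowers] at hsup
  generalize ⁅Q, zpowers a⁆ = E at hE hE1 hsup k hQE
  change E ⊔ fx a Q = Q at hsup
  change _ = Nat.card (fx a Q) ^ _ * _ at hw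
  obtain ⟨g, hg, hg1⟩ := (bot_or_exists_ne_one E).resolve_left hE1
  obtain ⟨K, S, kk, -⟩ := k.ex g hg hg1
  have h7 : fx a Q ⊓ E = S := le_antisymm (fun x hx => kk.fx_le ⟨hx.2, hx.1.2⟩) fun x hx =>
    ⟨⟨hE (kk.SE hx), (k.mem_fx_of_cen (kk.SE hx) fun y hy => of_comm_one
      (kk.ZK _ (h3' x (hE (kk.SE hx)) y (hE hy)) (kk.cenK hx hy))).2⟩, kk.SE hx⟩
  have h8 := Core.card_sup_mul_card_inf_of_le_normalizer (fx_le.trans hQE : fx a Q ≤ _)
  rw [sup_comm, hsup, h7, kk.idx, ← mul_assoc] at h8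
  have h9 := card_mul_relIndex' h6
  rw [Nat.eq_of_mul_eq_mul_right Nat.card_pos h8, ← h9] at hw
  obtain ⟨n, hn1, rfl⟩ := k.pow
  have h10 : (Q ⊓ zz G).relIndex (fx a Q) = 2 := by
    refine pow_eq_sq hn1 ?_
    have hk := Nat.pos_of_ne_zero (relIndex_ne (Q ⊓ zz G) (fx a Q))
    have hz : 0 < Nat.card ↥(Q ⊓ zz G) := Nat.card_pos
    generalize (Q ⊓ zz G).relIndex (fx a Q) = k at hw hk
    generalize Nat.card ↥(Q ⊓ zz G) = z at hw hz
    refine Nat.eq_of_mul_eq_mul_left (show 0 < z ^ (2 ^ n + 1) * (z * k) by positivity) ?_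
    rw [mul_assoc _ _ ((2 ^ n) ^ 2), hw]
    ring
  have h11 := Core.isMulCommutative_iff_forall.1 (Coprime.isMulCommutative_of_relIndex_prime h6
    (inf_le_right.trans (zz_le_cent (fx_le.trans hQ))) (h10 ▸ Nat.prime_two))
  have h12 : fx a Q ≤ Q ⊓ zz G := fun s hs => ⟨hs.1, h4 (mem_zz hs.1 fun g hg => mem_cent.1 ((hsup.ge.trans (sup_le
    (fun x hx => mem_cent.2 (k.cent_of_comm (fx_comm hs) (fun y hy => mem_fx.2
      ⟨comm_mem_right (hQE hs.1) hy, h.aZ (h3' s hs.1 y (hE hy))⟩) x hx)) fun x hx => mem_cent.2 (h11 s hs x hx)) :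
        Q ≤ centralizer {s}) hg) |>.symm)⟩
  rw [relIndex_eq_one.2 h12] at h10
  omega

/-- Proper normal invariant subgroups are central. -/
theorem nrm {N : Subgroup Γ} (hN : N ≤ G) (hn : G ≤ 𝒩(N)) (ha : a ∈ 𝒩(N)) : N = G ∨ N ≤ zz G := by
  refine (em _).imp_right fun hne => ?_
  have h1 : pCoreOf 2 G ≤ G := map_subtype_le _
  have h2 : IsPGroup 2 (pCoreOf 2 G) := Core.isPGroup_map_pCore G
  have h3 : ∀ {g : Γ}, g ∈ 𝒩(G) → g ∈ 𝒩(pCoreOf 2 G) := fun hg => Core.normalizer_le_normalizer_map_pCore G hg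
  have h4 := fun N => h.kk_le_two (N := N)
  generalize pCoreOf 2 G = Q at h1 h2 h3 h4
  refine le_zz hN (h.cent hn (h.comm_of_kk hN ha fun x hx => ?_))
  by_cases e : G ⊓ centralizer (Q : Set Γ) = G
  · exact h.aZ (le_zz h1 (e.ge.trans inf_le_right) (h4 N hN hne hn ha hx))
  have h5 : G ≤ 𝒩(G ⊓ centralizer (Q : Set Γ)) := fun g hg =>
    norm_inf (norm_of_mem hg) (norm_cent (h3 (norm_of_mem hg)))
  have h6 := norm_inf h.aG (norm_cent (h3 h.aG))
  exact h.solv h1 h2 (h3 h.aG) (fun g hg => h3 (norm_of_mem hg)) (le_zz inf_le_left (h.cent h5 (h.comm_of_kk inf_le_left h6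
    fun y hy => h.cr 2 Nat.prime_two h.hp.symm (zz Q) (zz_le.trans h1) (h2.to_le zz_le) (norm_zz (h3 h.aG))
      (.inr fun u hu v hv => zz_comm hv hu.1) y ⟨h4 _ inf_le_left e h5 h6 hy, (kk_le h6 hy).2⟩))) x
    (h4 N hN hne hn ha hx)

theorem perfect : ⁅G, G⁆ = G := by
  refine (h.nrm (Core.commutator_le_of_le le_rfl le_rfl) (normalizer_commutator_ge_left _ _)
    (norm_comm h.aG h.aG)).resolve_right fun e => ?_
  obtain ⟨P, hP, haP⟩ := h.syl0 p le_rfl h.aG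
  have h1 := sup_le hP.le (zz_le (G := G))
  have h2 := h.triv P hP.le hP.pgroup (fun g hg => norm_of_sylow (hP.of_le le_sup_left h1) (sup_le le_normalizer
    fun z hz => norm_of_comm fun x hx => (zz_comm hz (hP.le hx)).symm)
    (Core.le_normalizer_of_commutator_le_of_le (e.trans le_sup_right) h1 hg)) haP
  exact h.syl_ne hP haP fun x hx => by rw [mem_bot.1 (h2.le hx)]; exact Commute.one_right a

theorem cenZ {w : Γ} (hw : w ∈ G) (e : ∀ g ∈ G, ⁅g, w⁆ ∈ zz G) : w ∈ zz G :=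
  le_zz (zp_le hw) (le_centralizer_iff.1 (commutator_eq_bot_iff_le_centralizer.1
    (Core.commutator_eq_bot_of_perfect h.perfect (comm_zz (Core.commutator_zpowers_left_le (le_norm_zz hw)
      fun g hg => comm_symm (e g hg)) le_rfl)))) (mem_zpowers w)

theorem le_of_conj {M X : Subgroup Γ} (hM : M ≤ G) (hn : G ≤ 𝒩(M)) (hz : ¬ M ≤ zz G)
    (e : ∀ b ∈ zpowers a, cj b M ≤ X) : G ≤ X := by
  have h1 : ∀ b : zpowers a, cj (b : Γ) M ≤ ⨆ b : zpowers a, cj (b : Γ) M :=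
    le_iSup fun b : zpowers a => cj (b : Γ) M
  refine ((h.nrm (N := ⨆ b : zpowers a, cj (b : Γ) M) (iSup_le fun b => cj_le_iff.2 fun x hx =>
    cj_mem (zp_le h.aG b.2) (hM hx)) (fun g hg => mem_normalizer_of_cj_le ?_)
    (mem_normalizer_of_cj_le ?_)).resolve_right fun e => hz ?_).ge.trans (iSup_le fun b => e b b.2)
  · rw [cj, Subgroup.map_iSup]
    exact iSup_le fun b => (mem_normalizer_iff_cj.1 (norm_cj (zp_le h.aG b.2) hn hg)).le.trans (h1 b)
  · rw [cj, Subgroup.map_iSup]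
    exact iSup_le fun b => (cj_mul a b M).ge.trans (h1 ⟨a * b, mul_mem (mem_zpowers a) b.2⟩)
  · exact (cj_one M).ge.trans ((h1 1).trans e)

/-- `G` is simple modulo its centre. -/
theorem simple (N : Subgroup Γ) (hN : N ≤ G) (hn : G ≤ 𝒩(N)) : N = G ∨ N ≤ zz G := by
  refine (em _).symm.imp_left fun hz => ?_
  obtain ⟨M, hMN, ⟨h1, h2, h3⟩, hmin⟩ := exists_minimal_le_of_wellFoundedLT
    (fun M : Subgroup Γ => M ≤ G ∧ G ≤ 𝒩(M) ∧ ¬ M ≤ zz G) N ⟨hN, hn, hz⟩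
  have hm : ∀ X ≤ M, G ≤ 𝒩(X) → X = M ∨ X ≤ zz G := fun X hX h4 =>
    (em _).symm.imp_left fun e => le_antisymm hX (hmin ⟨hX.trans h1, h4, e⟩ hX)
  by_cases ha : a ∈ 𝒩(M)
  · exact le_antisymm hN (((h.nrm h1 h2 ha).resolve_right h3).ge.trans hMN)
  exfalso
  have hb : ∀ b ∈ zpowers a, G ≤ 𝒩(cj b M) := fun b hb => norm_cj (zp_le h.aG hb) h2
  have hb' : ∀ b ∈ zpowers a, cj b M ≤ G := fun b hb => cj_le_iff.2 fun x hx => cj_mem (zp_le h.aG hb) (h1 hx)
  have h4 : ∀ b ∈ zpowers a, b ≠ 1 → ⁅cj b M, M⁆ ≤ zz G := fun b h4 h5 => by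
    refine le_trans (le_inf (le_normalizer_iff_commutator_le_left.1 (h1.trans (hb b h4)))
      (le_normalizer_iff_commutator_le_right.1 ((hb' b h4).trans h2))) ((hm _ inf_le_right fun g hg =>
        norm_inf (hb b h4 hg) (h2 hg)).resolve_left fun e => ha ?_)
    exact (h.zp_eq h4 h5).ge.trans (zp_le (mem_normalizer_iff_cj.2
      (Core.eq_of_le_of_card_le (e.ge.trans inf_le_left) (card_cj b M).le).symm)) (mem_zpowers a)
  have h5 : ⁅M, M⁆ = M := by
    refine (hm _ (Core.commutator_le_of_le le_rfl le_rfl) fun g hg => norm_comm (h2 hg) (h2 hg)).resolve_right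
      fun e => h3 fun w hw => h.cenZ (h1 hw) fun g hg => ?_
    refine (h.le_of_conj (X := cm (zz G) M) h1 h2 h3 (fun b h5 x hx => ⟨le_norm_zz (hb' b h5 hx), fun c hc => ?_⟩)
      hg).2 w hw
    by_cases h6 : b = 1
    · exact e (commutator_mem_commutator (by simpa [h6] using hx) hc)
    · exact h4 b h5 h6 (commutator_mem_commutator hx hc)
  have h6 : ∀ b ∈ zpowers a, b ≠ 1 → cj b M ≤ centralizer (M : Set Γ) := fun b h6 h7 =>
    commutator_eq_bot_iff_le_centralizer.1 (Core.commutator_eq_bot_of_perfect h5 (comm_zz (h4 b h6 h7) h1))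
  have h7 : ∀ s : ℕ, s.Prime → s ≠ p → ∀ S ≤ M, IsPGroup s S → S ≤ zz G := fun s hs hsp S hS h7 x hx => by
    have := Fact.mk hs
    have h8 : ∀ b ∈ zpowers a, ∀ c ∈ zpowers a, Commute (b * x * b⁻¹) (c * x * c⁻¹) := fun b hb c hc => by
      by_cases e : b = c
      · rw [e]
      have h8 : Commute x (b⁻¹ * c * x * (b⁻¹ * c)⁻¹) := h6 _ (mul_mem (inv_mem hb) hc)
        (fun e' => e (inv_mul_eq_one.1 e')) (conj_mem_cj.2 (hS hx)) x (hS hx)
      simpa [mul_assoc] using h8.conj b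
    let X : Subgroup Γ := ⨆ b : zpowers a, zpowers ((b : Γ) * x * (b : Γ)⁻¹)
    have h9 : ∀ b ∈ zpowers a, b * x * b⁻¹ ∈ X := fun b hb =>
      le_iSup (fun b : zpowers a => zpowers ((b : Γ) * x * (b : Γ)⁻¹)) ⟨b, hb⟩ (mem_zpowers _)
    have h10 : X ≤ centralizer (X : Set Γ) := iSup_le fun b => zp_le (le_centralizer_iff.1
      (iSup_le fun c => zp_le (cent_zp.2 (h8 _ b.2 _ c.2))) (mem_zpowers _))
    have h11 := Core.iSup_induction_finite (P := fun A : Subgroup Γ => A ≤ X ∧ IsPGroup s A)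
      ⟨bot_le, IsPGroup.of_bot⟩ (fun A B hA hB => ⟨sup_le hA.1 hB.1, hA.2.to_sup_of_normal_right' hB.2
        fun g hg => norm_of_comm fun y hy => h10 (hB.1 hy) g (hA.1 hg)⟩)
      (f := fun b : zpowers a => zpowers ((b : Γ) * x * (b : Γ)⁻¹)) fun b => ⟨zp_le (h9 b b.2),
        cj_zpowers (b : Γ) x ▸ isPGroup_cj _ (isPGroup_zpowers_of_mem h7 hx)⟩
    have h12 := h.cr s hs hsp X (iSup_le fun b => zp_le (cj_mem (zp_le h.aG b.2) (h1 (hS hx)))) h11.2
      (mem_normalizer_of_cj_le (by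
        rw [cj, Subgroup.map_iSup]
        refine iSup_le fun b => ?_
        change cj a _ ≤ _
        rw [cj_zpowers]
        simpa [mul_assoc] using h9 (a * b) (mul_mem (mem_zpowers a) b.2)))
      (.inr fun u hu v hv => h10 hv u hu) x (by simpa using h9 1 (one_mem _))
    refine (hm (M ⊓ centralizer (M : Set Γ)) inf_le_left fun g hg => norm_inf (h2 hg) (norm_cent (h2 hg))).resolve_left
      (fun e => h3 (h5.ge.trans ((commutator_eq_bot_iff_le_centralizer.2 (e.ge.trans inf_le_right)).le.trans bot_le)))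
      ⟨hS hx, comm_conj_eq h12 ▸ h6 a (mem_zpowers a) (fun e => ha (e ▸ one_mem _)) (conj_mem_cj.2 (hS hx))⟩
  obtain ⟨P, hP⟩ := exists_isSylowIn p M
  have h8 : P ⊔ M ⊓ zz G = M := Coprime.eq_of_forall_sylow_le (sup_le hP.le inf_le_left) fun s hs _ => by
    by_cases e : s = p
    · exact ⟨P, le_sup_left, e ▸ hP.not_dvd⟩
    have := Fact.mk hs
    obtain ⟨S, hS⟩ := exists_isSylowIn s M
    exact ⟨S, (le_inf hS.le (h7 s hs e S hS.le hS.pgroup)).trans le_sup_right, hS.not_dvd⟩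
  have h9 := Core.commutator_sup_self_of_le_centralizer (A := P) (Z := M ⊓ zz G)
    (inf_le_right.trans (zz_le_cent (h8.le.trans h1)))
  rw [h8, h5] at h9
  have h10 : M = P := le_antisymm (h9.le.trans (Core.commutator_le_of_le le_rfl le_rfl)) hP.le
  exact (Coprime.commutator_lt_of_isPGroup hP.pgroup hP.pgroup le_normalizer
    fun e => h3 (h10.le.trans (e.le.trans bot_le))).ne (h9.symm.trans h10)

end Rq

end CfsgLib.FLA
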