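import Mathlib
import Cfsg.Agent.Lib.FLA.Grp
import Cfsg.Agent.Lib.FLA.Cp

/-!
Flavell's Theorem B: the layer of `H = [H, a]` lies in the layer of `G`.
-/

set_option autoImplicit false
set_option linter.unusedSectionVars false

namespace CfsgLib.FLA

open Subgroup Cfsg CfsgLib.Tech CfsgLib.Flav
open scoped commutatorElement

universe u

/-- The hypotheses of Theorem B. -/
structure HB {Γ : Type*} [Group Γ] (r : ℕ) (a : Γ) (G H : Subgroup Γ) : Prop where
  pw : a ^ r = 1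
  aG : a ∈ 𝒩(G)
  rG : ¬ r ∣ Nat.card G
  le : H ≤ G
  aH : a ∈ 𝒩(H)
  fn : fx a G ≤ 𝒩(H)
  cm : ⁅H, zpowers a⁆ = H

section

variable {Γ : Type*} [Group Γ] [Finite Γ] {r : ℕ} {a : Γ} {G H : Subgroup Γ}

theorem HB.map {Γ' : Type*} [Group Γ'] (hr : r.Prime) (h : HB r a G H) (f : Γ →* Γ') :
    HB r (f a) (G.map f) (H.map f) where
  pw := by rw [← map_pow, h.pw, map_one]
  aG := le_normalizer_map f (mem_map_of_mem f h.aG)
  rG := fun e => h.rG (e.trans (card_map_dvd G f))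
  le := map_mono h.le
  aH := le_normalizer_map f (mem_map_of_mem f h.aH)
  fn := by
    have := Coprime.map_inf_centralizer f (zp_le h.aG) (cop_of_pow hr h.pw h.rG inf_le_left)
      (.inl (Coprime.isSolvable_zpowers a))
    rw [MonoidHom.map_zpowers, Core.centralizer_zpowers, Core.centralizer_zpowers] at this
    rw [fx, ← this]
    exact (map_mono h.fn).trans (le_normalizer_map f)
  cm := by rw [← MonoidHom.map_zpowers, ← map_commutator, h.cm]

theorem HB.subgroupOf (h : HB r a G H) {N : Subgroup Γ} (haN : a ∈ N) (hN : G ≤ N) :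
    HB r (⟨a, haN⟩ : N) (G.subgroupOf N) (H.subgroupOf N) where
  pw := Subtype.ext h.pw
  aG := le_normalizer_comap N.subtype h.aG
  rG := by rw [Nat.card_congr (subgroupOfEquivOfLe hN).toEquiv]; exact h.rG
  le := comap_mono h.le
  aH := le_normalizer_comap N.subtype h.aH
  fn := fun x hx => le_normalizer_comap N.subtype
    (h.fn (mem_fx.2 ⟨hx.1, congrArg Subtype.val (fx_comm hx).eq⟩))
  cm := by
    refine map_injective N.subtype_injective ?_
    rw [map_commutator, MonoidHom.map_zpowers, map_subgroupOf_eq_of_le (h.le.trans hN)]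
    exact h.cm

/-- The Frattini argument for `[H, a]`. -/
theorem comm_le_frattini {p : ℕ} [Fact p.Prime] {D T X : Subgroup Γ} (hT : IsSylowIn p T D) (haD : a ∈ 𝒩(D))
    (hH : H ≤ 𝒩(D)) (hHX : H ≤ X) (hDX : D ≤ X) :
    ⁅H, zpowers a⁆ ≤ D ⊔ ⁅X ⊓ 𝒩(T), zpowers a⁆ := by
  refine comm_zp_le (norm_sup haD (a_norm_kk _ _)) fun x hx => ?_
  obtain ⟨n, hn, e⟩ := hT.frattini (hH hx)
  have : ⁅a, x⁆ = a * n⁻¹ * a⁻¹ * ⁅a, n * x⁆ * n := by simp only [commutatorElement_def]; group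
  rw [this]
  exact mul_mem (mul_mem (mem_sup_left (cj_mem haD (inv_mem hn)))
    (mem_sup_right (comm_mem_zp ⟨mul_mem (hDX hn) (hHX hx), e⟩))) (mem_sup_left hn)

/-- The case of a self-centralizing layer. -/
theorem HB.step1 (hr : r.Prime) (h : HB r a G H) (hC : G ⊓ centralizer ((lay G : Subgroup Γ) : Set Γ) = ⊥)
    (ih : ∀ G₁ H₁ : Subgroup Γ, G₁ < G → HB r a G₁ H₁ → lay H₁ ≤ lay G₁) : lay H ≤ lay G := by
  refine lay_le_iff.2 fun K hK => ?_
  have hr2 : r ≠ 2 := fun e => h.rG (e ▸ hK.two_dvd.trans (card_dvd_of_le (hK.le.trans h.le)))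
  set L := lay G with hL
  have hLG : L ≤ G := lay_le G
  have hGL : G ≤ 𝒩(L) := le_norm_lay G
  have haL : a ∈ 𝒩(L) := norm_lay h.aG
  have cop : ∀ {U : Subgroup Γ}, U ≤ G → (Nat.card (zpowers a)).Coprime (Nat.card U) :=
    fun hU => cop_of_pow hr h.pw h.rG hU
  refine (hK.dich (U := L ⊓ H) inf_le_right fun x hx =>
    norm_inf (hGL (h.le (hK.le hx))) (norm_of_mem (hK.le hx))).elim (fun e => e.trans inf_le_left) fun hKc => ?_
  set E := lay (H ⊓ centralizer ((L ⊓ H : Subgroup Γ) : Set Γ)) with hE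
  have hKE : K ≤ E := (hK.of_le (le_inf hK.le hKc) inf_le_left).le_lay
  have hEH : E ≤ H := (lay_le _).trans inf_le_left
  have hEc : E ≤ centralizer ((L ⊓ H : Subgroup Γ) : Set Γ) := (lay_le _).trans inf_le_right
  have nE : ∀ g : Γ, g ∈ 𝒩(L) → g ∈ 𝒩(H) → g ∈ 𝒩(E) := fun g h1 h2 =>
    norm_lay (norm_inf h2 (norm_cent (norm_inf h1 h2)))
  set D := L ⊓ centralizer (E : Set Γ) with hD
  have nD : ∀ g : Γ, g ∈ 𝒩(L) → g ∈ 𝒩(H) → g ∈ 𝒩(D) := fun g h1 h2 => norm_inf h1 (norm_cent (nE g h1 h2))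
  have hDG : D ≤ G := inf_le_left.trans hLG
  have hHD : H ≤ 𝒩(D) := fun g hg => nD g (hGL (h.le hg)) (norm_of_mem hg)
  have hfD : fx a L ≤ D := by
    refine le_inf fx_le (commutator_eq_bot_iff_le_centralizer.1 ?_)
    refine Core.commutator_eq_bot_of_perfect (lay_perfect _) ?_
    refine commutator_eq_bot_iff_le_centralizer.2 (le_trans ?_ (le_cent_symm hEc))
    refine commutator_le.2 fun x hx y hy => ⟨comm_mem_left (hGL (h.le (hEH hy))) hx.1, ?_⟩
    exact comm_mem_right (h.fn ⟨hLG hx.1, hx.2⟩) (hEH hy)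
  obtain ⟨T, hT, haT, -⟩ := exists_inv_sylow 2 (nD a haL h.aH) (cop hDG) bot_le IsPGroup.of_bot (norm_bot a)
  by_cases hT1 : T = ⊥
  · obtain ⟨S, hS, haS, -⟩ := exists_inv_sylow 2 haL (cop hLG) bot_le IsPGroup.of_bot (norm_bot a)
    have hfS : fx a S ≤ ⊥ := by
      have h1 : fx a S ≤ D := le_trans (inf_le_inf_right _ hS.le) hfD
      exact (eq_bot_of_not_dvd (hS.pgroup.to_le fx_le) h1 (not_dvd_of_bot (hT1 ▸ hT))).le
    have haN : a ∈ 𝒩(G ⊓ 𝒩(S)) := norm_inf h.aG (norm_norm' haS)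
    have hM : ⁅G ⊓ 𝒩(S), zpowers a⁆ ≤ G := (kk_le haN).trans inf_le_left
    refine le_of_perfect_le_sup hK.perfect (hM.trans hGL) (fun P hP e => ?_)
      (hK.le.trans (h.cm.ge.trans (comm_le_frattini hS haL (h.le.trans hGL) h.le hLG)))
    refine eq_bot_of_cent_sylow hC hS (hP.trans hM) e (le_cent_symm (commutator_eq_bot_iff_le_centralizer.1 ?_))
    exact le_bot_iff.1 (perfect_le hr hr2 h.pw hS.pgroup bot_le (fun x _ => norm_bot x) inf_le_right
      (fun x _ => norm_bot x) haS (norm_bot a) haN (fun e => h.rG (e.trans (card_dvd_of_le inf_le_left))) hfS e hP)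
  · have hTG : T ≤ G := hT.le.trans hDG
    have hXG : H ⊔ D ≤ G := sup_le h.le hDG
    have haX : a ∈ 𝒩((H ⊔ D) ⊓ 𝒩(T)) := norm_inf (norm_sup h.aH (nD a haL h.aH)) (norm_norm' haT)
    have hKD : K ≤ centralizer (D : Set Γ) := hKE.trans (le_cent_symm inf_le_right)
    have hK1 : Cp K ((H ⊔ D) ⊓ 𝒩(T)) := by
      refine ((hK.of_le hKE hEH).up (hEH.trans le_sup_left) (sup_le (fun g hg => ?_) ?_)).of_le
        (le_inf (hK.le.trans le_sup_left) ?_) inf_le_left
      · exact nE g (hGL (h.le hg)) (norm_of_mem hg)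
      · exact inf_le_right.trans (centralizer_le_normalizer _)
      · exact (hKD.trans (centralizer_le hT.le)).trans (centralizer_le_normalizer _)
    have hK2 : K ≤ ⁅(H ⊔ D) ⊓ 𝒩(T), zpowers a⁆ := by
      refine (hK1.dich (kk_le haX) (hK1.le.trans (normalizer_commutator_ge_left _ _))).resolve_right fun e => ?_
      refine hK.not_le_cent (le_cent_symm (hK.le.trans (h.cm.ge.trans ?_)))
      exact (comm_le_frattini hT (nD a haL h.aH) hHD le_sup_left le_sup_right).trans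
        (sup_le (le_cent_symm hKD) (le_cent_symm e))
    have hlt : G ⊓ 𝒩(T) < G := by
      refine lt_of_le_of_ne inf_le_left fun e => hT1 ?_
      have h1 := lay_le_cent hTG (Coprime.isSolvable_of_isPGroup hT.pgroup) (hLG.trans (e.ge.trans inf_le_right))
      exact le_bot_iff.1 (hC ▸ le_inf hTG (le_cent_symm h1))
    have hB : HB r a (G ⊓ 𝒩(T)) ⁅(H ⊔ D) ⊓ 𝒩(T), zpowers a⁆ :=
      { pw := h.pw
        aG := norm_inf h.aG (norm_norm' haT)
        rG := fun e => h.rG (e.trans (card_dvd_of_le inf_le_left))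
        le := (kk_le haX).trans (inf_le_inf_right _ hXG)
        aH := a_norm_kk _ _
        fn := fun x hx => by
          have h1 := h.fn ⟨hx.1.1, hx.2⟩
          refine norm_comm (norm_inf (norm_sup h1 (nD x (hGL hx.1.1) h1)) (norm_norm' hx.1.2)) ?_
          exact centralizer_le_normalizer _ (cent_zp.2 (fx_comm hx))
        cm := Coprime.commutator_commutator_eq (zp_le haX) (cop (inf_le_left.trans hXG)) }
    exact (hK1.of_le hK2 (kk_le haX)).le_lay.trans ((ih _ _ hlt hB).trans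
      (lay_le_iff.2 fun J hJ => bal hC hT.pgroup hTG hJ))

/-- If the layer of `H` acts by inner automorphisms on the layer of `G`, it lies in it. -/
theorem HB.step2 (hr : r.Prime) (h : HB r a G H)
    (h1 : ∀ K, Cp K H → ∀ k ∈ K, ∃ l ∈ lay G, l⁻¹ * k ∈ centralizer ((lay G : Subgroup Γ) : Set Γ)) :
    lay H ≤ lay G := by
  refine lay_le_iff.2 fun K hK => le_lay_of_inner (hK.le.trans h.le) hK.perfect (h1 K hK) fun p hp => ?_
  haveI := Fact.mk hp
  have hQ : IsPGroup p ((pCore p G).map G.subtype) := (Core.isPGroup_pCore p G).map _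
  by_cases e : r = p
  · rw [eq_bot_of_not_dvd hQ (map_subtype_le _) (e ▸ h.rG)]
    simp
  have n : ∀ g : Γ, g ∈ 𝒩(G) → g ∈ normalizer (((pCore p G).map G.subtype : Subgroup Γ) : Set Γ) :=
    fun g hg => Core.normalizer_le_normalizer_map_pCore G hg
  exact hK.le_lay.trans (lay_cent hr e h.pw hQ (fun g hg => n g (norm_of_mem (h.le hg))) (n a h.aG) h.aH
    (fun e => h.rG (e.trans (card_dvd_of_le h.le))) h.cm
    (le_trans (inf_le_inf_right _ (map_subtype_le _)) h.fn))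

end

theorem thmB_aux {r : ℕ} (hr : r.Prime) (n : ℕ) : ∀ {Γ : Type u} [Group Γ] [Finite Γ] {a : Γ} {G H : Subgroup Γ},
    Nat.card G < n → HB r a G H → lay H ≤ lay G := by
  induction n with
  | zero => exact fun h => absurd h (Nat.not_lt_zero _)
  | succ n ih =>
  intro Γ _ _ a G H hn h
  by_cases hC : G ⊓ centralizer ((lay G : Subgroup Γ) : Set Γ) = ⊥
  · exact h.step1 hr hC fun G₁ H₁ e h1 => ih (lt_of_lt_of_le (Core.card_lt_of_lt e) (Nat.lt_succ_iff.1 hn)) h1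
  refine h.step2 hr fun K hK k hk => ?_
  set L := lay G with hL
  have hLG : L ≤ G := lay_le G
  have hGL : G ≤ 𝒩(L) := le_norm_lay G
  have hLL : L ≤ 𝒩(L) := le_normalizer
  have hKL : K ≤ 𝒩(L) := (hK.le.trans h.le).trans hGL
  set φ := L.normalizerMonoidHom with hφ
  have hker : φ.ker = (centralizer (L : Set Γ)).subgroupOf 𝒩(L) := normalizerMonoidHom_ker L
  have hB := (h.subgroupOf (norm_lay h.aG) hGL).map hr φ
  have hlt : Nat.card ((G.subgroupOf 𝒩(L)).map φ) < Nat.card G := by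
    have h1 := card_mul_relIndex' (inf_le_right : φ.ker ⊓ G.subgroupOf 𝒩(L) ≤ _)
    rw [inf_relIndex_right, relIndex_ker, Nat.card_congr (subgroupOfEquivOfLe hGL).toEquiv] at h1
    rw [← h1]
    refine lt_mul_of_one_lt_left Nat.card_pos ((one_lt_card_iff_ne_bot _).2 fun e => hC (eq_bot_iff.2 fun x hx => ?_))
    have h2 : (⟨x, hGL hx.1⟩ : 𝒩(L)) ∈ φ.ker ⊓ G.subgroupOf 𝒩(L) := ⟨hker ▸ hx.2, hx.1⟩
    rw [e] at h2
    exact mem_bot.2 (congrArg Subtype.val (mem_bot.1 h2))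
  have h1 := ih (lt_of_lt_of_le hlt (Nat.lt_succ_iff.1 hn)) hB
  have h2 : lay ((G.subgroupOf 𝒩(L)).map φ) ≤ (L.subgroupOf 𝒩(L)).map φ := by
    refine lay_le_iff.2 fun J hJ => (hJ.dich (map_mono (comap_mono hLG)) ?_).resolve_right fun e => hJ.ne_bot ?_
    · refine hJ.le.trans (le_trans (map_mono ?_) (le_normalizer_map φ))
      exact (comap_mono hGL).trans (le_normalizer_comap _)
    · have h3 : ⁅J.comap φ, L.subgroupOf 𝒩(L)⁆ = ⊥ := by
        refine Core.commutator_eq_bot_of_perfect (by rw [Core.commutator_subgroupOf hLL hLL, lay_perfect]) ?_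
        rw [commutator_eq_bot_iff_le_centralizer, centralizer_subgroupOf hLL, ← hker, Core.commutator_le_ker_iff]
        exact (map_comap_le _ _).trans e
      rw [commutator_eq_bot_iff_le_centralizer, centralizer_subgroupOf hLL, ← hker] at h3
      rw [← map_comap_eq_self (hJ.le.trans (map_le_range φ _)), Subgroup.map_eq_bot_iff]
      exact h3
  have h4 : (K.subgroupOf 𝒩(L)).map φ ≤ (L.subgroupOf 𝒩(L)).map φ := by
    by_cases e : (K.subgroupOf 𝒩(L)).map φ = ⊥
    · exact e ▸ bot_le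
    · exact ((hK.subgroupOf hKL).map φ e).le_lay.trans (h1.trans h2)
  obtain ⟨l, hl, e⟩ := h4 (mem_map_of_mem φ (show (⟨k, hKL hk⟩ : 𝒩(L)) ∈ K.subgroupOf _ from hk))
  have h5 : l⁻¹ * ⟨k, hKL hk⟩ ∈ φ.ker := by rw [MonoidHom.mem_ker, map_mul, map_inv, e, inv_mul_cancel]
  rw [hker] at h5
  exact ⟨l, hl, h5⟩

theorem thmB {Γ : Type*} [Group Γ] [Finite Γ] {r : ℕ} (hr : r.Prime) {a : Γ} (ha : a ^ r = 1) {G H : Subgroup Γ}
    (haG : a ∈ 𝒩(G)) (hrG : ¬ r ∣ Nat.card G) (hHG : H ≤ G) (haH : a ∈ 𝒩(H)) (hf : fx a G ≤ 𝒩(H))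
    (hc : ⁅H, zpowers a⁆ = H) : lay H ≤ lay G :=
  thmB_aux hr _ (Nat.lt_succ_self _) ⟨ha, haG, hrG, hHG, haH, hf, hc⟩

end CfsgLib.FLA
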