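import Mathlib
import Cfsg.Agent.Lib.FLA.ThmB
import Cfsg.Agent.Lib.Comp.Local

/-!
Flavell's Theorem C: local components.
-/

set_option autoImplicit false
set_option linter.unusedSectionVars false

namespace CfsgLib.FLA

open Subgroup Cfsg CfsgLib.Tech CfsgLib.Flav CfsgLib.Comp CfsgLib.PComp
open scoped commutatorElement

section
variable {X : Type*} [Group X] [Finite X] {r : ℕ} {a : X} {Λ K : Subgroup X}

/-- The join of the conjugates of `K` under `Λ`. -/
def oc (Λ K : Subgroup X) : Subgroup X := ⨆ g : Λ, cj g.1 K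

theorem oc_le {Y : Subgroup X} (h : ∀ g ∈ Λ, cj g K ≤ Y) : oc Λ K ≤ Y := iSup_le fun g => h g.1 g.2

theorem cj_le_oc {g : X} (hg : g ∈ Λ) : cj g K ≤ oc Λ K := le_iSup (fun g : Λ => cj g.1 K) ⟨g, hg⟩

theorem le_oc : K ≤ oc Λ K := (cj_one K).ge.trans (cj_le_oc Λ.one_mem)

theorem norm_oc : Λ ≤ 𝒩(oc Λ K) := fun g hg => mem_normalizer_of_cj_le (by
  rw [oc, cj, Subgroup.map_iSup]
  exact iSup_le fun h => (cj_mul g h K).ge.trans (cj_le_oc (mul_mem hg h.2)))

theorem cj_le_of_norm {g : X} {Y : Subgroup X} (hg : g ∈ 𝒩(Y)) (h : K ≤ Y) : cj g K ≤ Y :=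
  cj_le_iff.2 fun _ hx => cj_mem hg (h hx)

theorem le_cent_single (hK : ⁅K, K⁆ = K) (h : ⁅K, zpowers a⁆ ≤ centralizer (K : Set X)) : K ≤ centralizer {a} :=
  fun x hx => mem_cent.2 (cent_zp.1 (le_centralizer_iff.1 (le_cent_of_comm hK ((commutator_comm _ _).trans_le h)) hx))

theorem thmC_layer (hr : r.Prime) (ha : a ^ r = 1) (hrE : ¬ r ∣ Nat.card (layer X)) (hKE : K ≤ layer X)
    (hK : IsQuasisimple K) (hc : ∀ g, g ∈ zpowers a ∨ g ∈ fx a (layer X) → g ∈ 𝒩(K) ∨ ⁅cj g K, K⁆ = ⊥)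
    (hn : ¬ K ≤ centralizer {a}) : IsComponent K ∨ ∃ L, IsComponent L ∧ a ∈ 𝒩(L) ∧ K ≤ L := by
  have := Fact.mk hr
  have := layer_normal (G := X)
  have pf := qs_sub_perfect hK
  have nE : ∀ g : X, g ∈ 𝒩(layer X) := fun g => le_normalizer_of_normal (mem_top g)
  have nL : ∀ {L : Subgroup X}, IsComponent L → layer X ≤ 𝒩(L) := layer_le_normalizer_comp
  have P2 : ∀ {L : Subgroup X}, IsComponent L → ¬ K ≤ centralizer (L : Set X) →
      normalizer (K : Set X) ⊓ centralizer (L : Set X) ≤ centralizer (K : Set X) := fun hL h =>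
    le_cent_of_comm pf ((le_inf
      ((commutator_comm _ _).trans_le (Coprime.commutator_le_of_le_normalizer inf_le_left))
      ((commutator_mono inf_le_right le_rfl).trans
        (Coprime.commutator_le_of_le_normalizer fun _ hg => norm_cent (nL hL (hKE hg))))).trans
      ((qs_sub_normal hK inf_le_left fun g hg => norm_inf (norm_of_mem hg) (norm_cent (nL hL (hKE hg)))).resolve_left
        fun e => h (e.ge.trans inf_le_right)))
  have P0 : ∀ {L : Subgroup X} {g : X}, IsComponent L → ⁅cj g K, K⁆ = ⊥ →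
      ⁅cj g K ⊔ centralizer (L : Set X), K⁆ ≤ centralizer (L : Set X) := fun hL h =>
    comm_le_cent (hKE.trans (nL hL)) ((cj_le_of_norm (nE _) hKE).trans (nL hL)) h
  have A : ∀ {L₁ L₂ : Subgroup X}, IsComponent L₁ → IsComponent L₂ → ¬ K ≤ centralizer (L₁ : Set X) →
      ¬ K ≤ centralizer (L₂ : Set X) → ∃ b ∈ zpowers a, cj b L₁ = L₂ := fun {L₁ L₂} h1 h2 n1 n2 => by
    by_contra! e
    have y1 : oc (zpowers a) L₁ ≤ centralizer (L₂ : Set X) := oc_le fun g hg =>
      comp_le_centralizer_of_ne (comp_map_conj h1 g) h2 (e g hg)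
    have y2 : oc (zpowers a) L₁ ≤ layer X := oc_le fun g _ => comp_le_layer (comp_map_conj h1 g)
    have y3 : layer X ≤ 𝒩(oc (zpowers a) L₁) :=
      (le_iInf fun g => nL (comp_map_conj h1 _)).trans (iInf_normalizer_le_normalizer_iSup _)
    have y4 : fx a (oc (zpowers a) L₁) ≤ centralizer (K : Set X) := fun c hx =>
      (hc c (.inr ⟨y2 hx.1, hx.2⟩)).elim (fun h => P2 h2 n2 ⟨h, y1 hx.1⟩) fun h => absurd
        (pf.ge.trans ((commutator_mono (fun k hk => by
          rw [show k = c * k * c⁻¹ * (c * (k⁻¹ * c⁻¹ * k)) by group]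
          exact mul_mem_sup (conj_mem_cj.2 hk) (mul_mem (y1 hx.1)
            (cj_mem' (norm_cent (nL h2 (hKE hk))) (inv_mem (y1 hx.1))))) le_rfl).trans (P0 h2 h))) n2
    refine n1 ((pj hr ha (M := layer X ⊓ centralizer (fx a (oc (zpowers a) L₁) : Set X))
      (fun e => hrE (e.trans (card_dvd_of_le y2))) (norm_oc (mem_zpowers a))
      (norm_inf (nE a) (norm_cent (norm_of_comm fun _ => fx_comm)))
      (inf_le_left.trans (layer_le_iff.2 fun L hL => ?_)) (le_centralizer_iff.1 inf_le_right) pf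
      (le_inf hKE (le_centralizer_iff.1 y4))).trans (centralizer_le le_oc))
    exact (comp_le_or_commutator_of_le_normalizer hL ((comp_le_layer hL).trans y3)).elim
      (le_sup_left.trans' ·) fun h => (commutator_eq_bot_iff_le_centralizer.1 h).trans le_sup_right
  obtain ⟨L, hL, n1⟩ : ∃ L : Subgroup X, IsComponent L ∧ ¬ K ≤ centralizer (L : Set X) := by
    by_contra! e
    exact qs_sub_not_le_centralizer hK (hKE.trans (layer_le_iff.2 fun L hL => le_centralizer_iff.1 (e L hL)))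
  have D : a ∉ 𝒩(L) → ∀ l ∈ L, ∃ c ∈ centralizer (L : Set X), l * c ∈ fx a (layer X) := fun h l hl =>
    let ⟨c, c1, c2, c3⟩ := exists_mul_mem_centralizer_of_not_mem_normalizer
      (orderOf_eq_prime ha fun e => h (e ▸ one_mem _)) hL h hl
    ⟨c, c1, mul_mem (comp_le_layer hL hl) c2, c3⟩
  have F : a ∉ 𝒩(L) → L ≤ K ⊔ centralizer (L : Set X) := fun h => by
    have e := (commutator_eq_or_eq_bot (comp_qs hL) (hKE.trans (nL hL))).resolve_right fun e =>
      n1 (le_centralizer_iff.1 (commutator_eq_bot_iff_le_centralizer.1 e))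
    refine e.ge.trans ((commutator_comm _ _).trans_le ((commutator_mono le_sup_left le_rfl).trans
      (Coprime.commutator_le_of_le_normalizer (e.ge.trans (commutator_le.2 fun l hl k hk => ?_)))))
    obtain ⟨c, c1, c2⟩ := D h l hl
    rw [show ⁅l, k⁆ = l * c * k * (l * c)⁻¹ * (l * c * (k⁻¹ * c⁻¹ * k * c) * (l * c)⁻¹) * k⁻¹ by
      rw [commutatorElement_def]; group]
    refine mul_mem (mul_mem (norm_sup ?_ (norm_cent (nL hL (cj_mem (nE _) (hKE hk))))) (norm_of_mem
      (mem_sup_right (cj_mem (norm_cent (nL hL c2.1)) (mul_mem (cj_mem' (norm_cent (nL hL (hKE hk)))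
        (inv_mem c1)) c1))))) (norm_of_mem (mem_sup_left (inv_mem hk)))
    exact (hc _ (.inr c2)).elim (fun h => norm_of_mem (cj_mem h hk)) fun h =>
      centralizer_le_normalizer _ (commutator_eq_bot_iff_le_centralizer.1 h (conj_mem_cj.2 hk))
  by_cases hu : ∀ L₂ : Subgroup X, IsComponent L₂ → L₂ ≠ L → K ≤ centralizer (L₂ : Set X)
  · have hKL : K ≤ L := pf.ge.trans ((commutator_mono hKE le_rfl).trans
      (Core.le_commutatorStabilizer_iff.1 (layer_le_iff.2 fun L' h' => Core.le_commutatorStabilizer_iff.2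
        ⟨comp_le_normalizer h' hL, by
          by_cases e : L' = L
          · rw [e]; exact Coprime.commutator_le_of_le_normalizer (hKE.trans (nL hL))
          · rw [commutator_eq_bot_iff_le_centralizer.2 (le_centralizer_iff.1 (hu L' h' e))]
            exact bot_le⟩)).2)
    by_cases h : a ∈ 𝒩(L)
    · exact .inr ⟨L, hL, h, hKL⟩
    · exact .inl ((qs_sub_normal (comp_qs hL) hKL ((F h).trans (sup_le le_normalizer
        ((centralizer_le hKL).trans (centralizer_le_normalizer _))))).resolve_right n1 ▸ hL)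
  push Not at hu
  obtain ⟨L₂, h2, ne, n2⟩ := hu
  obtain ⟨b, hb, rfl⟩ := A hL h2 n1 n2
  have h : a ∉ 𝒩(L) := fun e => ne (mem_normalizer_iff_cj.1 (zp_le e hb))
  have N : ∀ g, g ∈ zpowers a ∨ g ∈ fx a (layer X) → ¬ K ≤ centralizer (cj g L : Set X) → g ∈ 𝒩(K) :=
    fun g hg n => (hc g hg).resolve_right fun e => n (le_cent_of_comm (comp_perfect (comp_map_conj hL g))
      ((commutator_comm _ _).trans_le ((commutator_mono ((cj_mono g (F h)).trans_eq
        (by rw [cj_sup, cj_centralizer])) le_rfl).trans (P0 (comp_map_conj hL g) e))))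
  have aK : a ∈ 𝒩(K) := by
    have h1 := card_dvd_of_le (zp_le hb)
    have h3 : Nat.card (zpowers a) = r := by
      rw [Nat.card_zpowers, orderOf_eq_prime ha fun e => h (e ▸ one_mem _)]
    rw [h3] at h1
    refine zp_le (N b (.inl hb) n2) ((Core.eq_of_le_of_card_le (zp_le hb) ?_).ge (mem_zpowers a))
    rw [h3, (hr.eq_one_or_self_of_dvd _ h1).resolve_left fun e =>
      ne (by rw [zpowers_eq_bot.1 (card_eq_one.1 e), cj_one])]
  refine absurd (le_cent_single pf (comm_zp_le (norm_cent aK) fun k hk => ?_)) hn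
  obtain ⟨l, hl, c', c3, rfl⟩ := (Core.mem_sup_of_le_normalizer_left
    (inf_le_right.trans (centralizer_le_normalizer _))).1 ((layer_eq_comp_sup_centralizer hL).le (hKE hk))
  obtain ⟨c, c1, c2⟩ := D h l hl
  have d1 := N _ (.inr c2) (by rwa [mem_normalizer_iff_cj.1 (nL hL c2.1)])
  have z : c⁻¹ * c' ∈ centralizer (K : Set X) := P2 hL n1 (mem_inf.2 ⟨by
    rw [show c⁻¹ * c' = (l * c)⁻¹ * (l * c') by group]
    exact mul_mem (inv_mem d1) (norm_of_mem hk), mul_mem (inv_mem c1) c3.2⟩)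
  rw [show ⁅a, l * c'⁆ = ⁅a, l * c⁆ * (l * c * ⁅a, c⁻¹ * c'⁆ * (l * c)⁻¹) by
    simp only [commutatorElement_def]; group, comm_one (fx_comm c2), one_mul]
  exact cj_mem (norm_cent d1) (comm_mem_right (norm_cent aK) z)

end

theorem thmC {Γ : Type*} [Group Γ] [Finite Γ] {r : ℕ} (hr : r.Prime) {a : Γ} (ha : a ^ r = 1) {G K : Subgroup Γ}
    (haG : a ∈ 𝒩(G)) (hrG : ¬ r ∣ Nat.card G) (hKG : K ≤ G) (hK : IsQuasisimple K)
    (hcomm : ∀ g ∈ zpowers a ⊔ fx a G, cj g K ≠ K → ⁅K, cj g K⁆ = ⊥) :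
    (K ≤ fx a G ∧ IsComponent (K.subgroupOf (fx a G))) ∨ IsComponent (K.subgroupOf G) ∨
      ∃ L ≤ G, IsComponent (L.subgroupOf G) ∧ a ∈ 𝒩(L) ∧ K ≤ L := by
  set M := oc (zpowers a ⊔ fx a G) K
  have pf := qs_sub_perfect hK
  have m1 : M ≤ 𝒩(K) := oc_le fun g hg => by
    by_cases e : cj g K = K
    · exact e.le.trans le_normalizer
    · exact (le_centralizer_iff.1 (commutator_eq_bot_iff_le_centralizer.1 (hcomm g hg e))).trans
        (centralizer_le_normalizer _)
  have m2 : ∀ H : Subgroup Γ, M ≤ H → H ≤ 𝒩(M) → IsComponent (K.subgroupOf H) := fun H h1 h2 =>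
    ⟨(SubnIn.step le_oc m1 (subnIn_of_le_normalizer h1 h2)).2, (qs_subgroupOf_iff (le_oc.trans h1)).2 hK⟩
  by_cases hn : K ≤ centralizer {a}
  · exact .inl ⟨le_inf hKG hn, m2 _ (oc_le fun g hg => cj_le_of_norm
      (sup_le (zp_le (norm_of_comm fun _ => fx_comm)) le_normalizer hg) (le_inf hKG hn))
      (le_sup_right.trans norm_oc)⟩
  have m3 : M ≤ G := oc_le fun g hg => cj_le_of_norm (sup_le (zp_le haG) (fx_le.trans le_normalizer) hg) hKG
  have aM : a ∈ 𝒩(M) := norm_oc (mem_sup_left (mem_zpowers a))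
  have k1 : K ≤ ⁅M, zpowers a⁆ := (comp_rel_le_or_commutator le_oc (m2 M le_rfl le_normalizer) (kk_le aM)
    (le_oc.trans (normalizer_commutator_ge_left _ _))).resolve_right fun e => hn (le_cent_single pf
      ((commutator_mono le_oc le_rfl).trans (le_centralizer_iff.1 (commutator_eq_bot_iff_le_centralizer.1 e))))
  have k2 : K ≤ lay G := (le_map_layer_subtype k1 (comp_subgroupOf_of_le k1 (kk_le aM)
    (m2 M le_rfl le_normalizer))).trans (thmB hr ha haG hrG ((kk_le aM).trans m3) (a_norm_kk a M)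
      (fun c hc => norm_comm (norm_oc (mem_sup_right hc))
        (centralizer_le_normalizer _ (cent_zp.2 (fx_comm hc))))
      (Coprime.commutator_commutator_eq (zp_le aM) (cop_of_pow hr ha hrG m3)))
  have nG : G ⊔ zpowers a ≤ 𝒩(G) := sup_le le_normalizer (zp_le haG)
  have x1 : lay G ≤ lay (G ⊔ zpowers a) := map_layer_subtype_le_iff.2 fun L h1 h2 =>
    le_map_layer_subtype (h1.trans le_sup_left) ⟨(SubnIn.trans ⟨h1, h2.1⟩
      (subnIn_of_le_normalizer le_sup_left nG)).2,
      (qs_subgroupOf_iff (h1.trans le_sup_left)).2 ((qs_subgroupOf_iff h1).1 h2.2)⟩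
  have x2 : lay (G ⊔ zpowers a) ≤ G := (layerOf_perfect _).ge.trans
    ((commutator_mono (map_subtype_le _) (map_subtype_le _)).trans (Core.commutator_sup_left_le le_normalizer
      (zp_le haG) (Coprime.commutator_le_of_le_normalizer nG) (Core.commutator_sup_right_le le_normalizer
        (zp_le haG) ((commutator_comm _ _).trans_le (kk_le haG)) (by
          rw [commutator_eq_bot_iff_le_centralizer.2 (zp_le (cent_zp.2 (Commute.refl a)))]; exact bot_le))))
  rcases thmC_layer (X := ↥(G ⊔ zpowers a)) (a := ⟨a, mem_sup_right (mem_zpowers a)⟩)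
    (K := K.subgroupOf _) hr (Subtype.ext ha)
    (fun e => hrG (e.trans ((card_subtype _ _).symm.dvd.trans (card_dvd_of_le x2))))
    ((comap_mono (k2.trans x1)).trans_eq (comap_map_eq_self_of_injective (subtype_injective _) _))
    ((qs_subgroupOf_iff (hKG.trans le_sup_left)).2 hK) (fun g hg => by
      by_cases e : cj g.1 K = K
      · exact .inl (le_normalizer_comap _ (mem_normalizer_iff_cj.2 e))
      · refine .inr (commutator_eq_bot_iff_le_centralizer.2 fun x hx y hy => Subtype.ext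
          (le_centralizer_iff.1 (commutator_eq_bot_iff_le_centralizer.1 (hcomm g ?_ e))
            (mem_cj.2 (mem_cj (g := g).1 hx)) y hy))
        rcases hg with ⟨n, rfl⟩ | hg
        · exact mem_sup_left ⟨n, rfl⟩
        · exact mem_sup_right (mem_fx.2 ⟨x2 ⟨g, hg.1, rfl⟩, congrArg Subtype.val (fx_comm hg).eq⟩))
    (fun e => hn fun x hx => mem_cent.2 (congrArg Subtype.val
      (mem_cent.1 (e (x := ⟨x, mem_sup_left (hKG hx)⟩) hx)).eq)) with h | ⟨L, h1, h2, h3⟩
  · exact .inr (.inl (comp_subgroupOf_of_le hKG le_sup_left h))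
  · have h4 := (map_mono (comp_le_layer h1)).trans x2
    exact .inr (.inr ⟨_, h4, comp_subgroupOf_of_le h4 le_sup_left (comp_subgroupOf_map_subtype h1),
      le_normalizer_map _ ⟨_, h2, rfl⟩, fun x hx => ⟨⟨x, mem_sup_left (hKG hx)⟩, h3 hx, rfl⟩⟩)

end CfsgLib.FLA
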